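import Cfsg.Agent.Lib.Chev.Weights.Count
import Cfsg.Agent.Lib.Chev.SteinbergChar
import Cfsg.Agent.Lib.Modular.DefectZeroSimple

/-!
The Steinberg character is the only character of defect zero in the defining characteristic.
-/

set_option autoImplicit false

namespace CfsgLib.Chev.Weights

open Cfsg Cfsg.Lie CfsgLib.Modular CfsgLib.BrauerChar

variable {D : ChevalleyDatum} {A : Aux} {F : Type*} [Field F] [Fintype F]

/-- the weight of a simple module of full `p`-part dimension is the Steinberg weight -/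
theorem wgt_of_full_dim {k : Type*} [Field k] [CharP k (ringChar F)] {W : Type*} [AddCommGroup W]
    [Module k W] [FiniteDimensional k W] (h : Std D A) {ρ : Representation k ↥(D.group F) W}
    (hρ : IsSimpleRep ρ)
    (hdim : ringChar F ^ (Nat.card ↥(D.group F)).factorization (ringChar F) ∣ Module.finrank k W)
    {v : W} (X : Wgt D F k) (hv : HasWt h.good ρ v (fun t => ((lam X.1.1 t : kˣ) : k)) (heckeVal X)) :
    X.1 = (1, ∅) := by
  classical
  have g := h.good
  haveI := hρ.nontrivial
  haveI : Finite (GL D.Idx F) := finite_GL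
  haveI := Fintype.ofFinite ↥(VI D F)
  obtain ⟨p, hp⟩ := CharP.exists F
  haveI := hp
  obtain ⟨-, hpr, -⟩ := FiniteField.card F p
  haveI : Fact (ringChar F).Prime := ⟨(ringChar.eq F p).symm ▸ hpr⟩
  have htop : negSpan ρ v = ⊤ :=
    (hρ.eq_bot_or_top _ (negSpan_invar h ρ hv.isWt)).resolve_left fun e =>
      hv.ne ((Submodule.mem_bot k).1 (e ▸ mem_negSpan ρ v))
  set f : ↥(VI D F) → W := fun u => ρ (u : ↥(D.group F)) v
  have hspan : Submodule.span k (Set.range f) = ⊤ := by
    rw [← htop]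
    refine congrArg (Submodule.span k) (Set.ext fun w => ?_)
    simp [f]
  have hle : Fintype.card ↥(VI D F) ≤ Module.finrank k W := by
    obtain ⟨j, hj⟩ := (isPGroup_VI (F := F) h).exists_card_eq
    rw [← Nat.card_eq_fintype_card, hj]
    refine Nat.le_of_dvd Module.finrank_pos (dvd_trans (pow_dvd_pow _ ?_) hdim)
    have h1 : ringChar F ^ j ∣ Nat.card ↥(D.group F) := hj ▸ Subgroup.card_subgroup_dvd_card _
    exact ((Fact.out : (ringChar F).Prime).pow_dvd_iff_le_factorization Nat.card_pos.ne').1 h1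
  have hli : LinearIndependent k f := by
    rw [linearIndependent_iff_card_eq_finrank_span, Set.finrank, hspan, finrank_top]
    refine le_antisymm hle ?_
    calc Module.finrank k W = Module.finrank k (Submodule.span k (Set.range f)) := by
          rw [hspan, finrank_top]
      _ ≤ _ := finrank_range_le_card f
  -- the Hecke eigenvalues do not vanish
  have hc : ∀ i : Fin D.rank, heckeVal X i ≠ 0 := by
    intro i e
    have h1 := hv.hecke i
    rw [e, zero_smul, Tj] at h1
    have hη : (A.eta i (A.neg (D.simple i)) : F) ≠ 0 :=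
      eta_ne_zero g i.isLt (g.neg_lt _ (g.simple_lt i i.isLt))
    have hmem : ∀ s : F, Weights.X g (A.neg (D.simple i)) s ∈ VI D F := fun s =>
      xG_mem_negUnipotent g (negSimple_isNeg g i.isLt) s
    have h2 : ∑ s : F, ρ (Weights.X g (A.neg (D.simple i)) s) v = 0 := by
      have h3 := congrArg (ρ (N g i)⁻¹) h1
      rw [map_zero, map_sum] at h3
      rw [← h3]
      refine Fintype.sum_equiv (Equiv.mulLeft₀ _ hη) _ _ fun s => ?_
      rw [← rep_mul, show (N g i)⁻¹ * (Weights.X g (D.simple i) ((Equiv.mulLeft₀ _ hη) s) * N g i) =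
        Weights.X g (A.neg (D.simple i)) s by
        rw [inv_mul_eq_iff_eq_mul]
        exact (Subtype.ext (n_mul_y g i.isLt s)).symm]
    let e' : F → ↥(VI D F) := fun s => ⟨_, hmem s⟩
    have he' : Function.Injective e' := fun a b hab => by
      by_contra hne
      have hr := g.neg_lt _ (g.simple_lt i i.isLt)
      have h5 : xG g (A.neg (D.simple i)) a = xG g (A.neg (D.simple i)) b :=
        congrArg (fun z : ↥(VI D F) => ((z : ↥(D.group F)) : GL D.Idx F)) hab
      refine g.neg_ne _ hr (xG_inj_root g hr (g.neg_lt _ hr) (sub_ne_zero.2 hne) (u := 0) ?_).symm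
      rw [xG_zero, sub_eq_add_neg, ← xG_add, h5, xG_add, add_neg_cancel, xG_zero]
    have h4 := (Fintype.linearIndependent_iff.1 (hli.comp e' he')) (fun _ => 1)
      (by simpa [f, e'] using h2) 0
    exact one_ne_zero h4
  have hK : X.1.2 = ∅ := Finset.eq_empty_iff_forall_notMem.2 fun i hi =>
    hc i (by rw [heckeVal, if_pos hi])
  have hl : X.1.1 = 1 := funext fun i => by
    by_contra hne
    rw [Pi.one_apply] at hne
    exact hc i (by rw [heckeVal, hK, if_neg (Finset.notMem_empty i), Lsum_eq, if_neg hne])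
  exact Prod.ext hl hK

/-- **two characters of defect zero are equal** -/
theorem eq_of_defect_zero (h : Std D A) (p : ℕ) [Fact p.Prime] [CharP F p]
    (χ χ' : IrrCharacter ↥(D.group F))
    (hχ : p ^ (Nat.card ↥(D.group F)).factorization p ∣ charDegree (χ : ↥(D.group F) → ℂ))
    (hχ' : p ^ (Nat.card ↥(D.group F)).factorization p ∣ charDegree (χ' : ↥(D.group F) → ℂ)) :
    χ = χ' := by
  classical
  haveI : Finite (GL D.Idx F) := finite_GL
  haveI := Fintype.ofFinite ↥(D.group F)
  obtain rfl : p = ringChar F := (ringChar.eq F p).symm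
  obtain ⟨M, hM⟩ := CharApps.exists_pModular (ringChar F)
  haveI := Blocks.isPrime_of_isPModular hM
  obtain ⟨V, hV⟩ := exists_place hM.2.2
  haveI hVp : CharP (Res V) (ringChar F) := hV.charP
  have key : ∀ ξ : IrrCharacter ↥(D.group F),
      ringChar F ^ (Nat.card ↥(D.group F)).factorization (ringChar F) ∣
        charDegree (ξ : ↥(D.group F) → ℂ) →
      ∃ s : ColRep V ↥(D.group F), IsSimpleRep s.2 ∧ bch (ringChar F) s.2 = (ξ : ↥(D.group F) → ℂ) ∧
        ∃ v, HasWt h.good s.2 v (fun t => ((lam (1 : Fin D.rank → (Fˣ →* (Res V)ˣ)) t : (Res V)ˣ) : Res V))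
          (heckeVal (⟨(1, ∅), fun _ hj => absurd hj (Finset.notMem_empty _)⟩ : Wgt D F (Res V))) := by
    intro ξ hξ
    have hdeg : BlockOrth.degVal (ringChar F) ξ =
        (Nat.card ↥(D.group F)).factorization (ringChar F) :=
      le_antisymm (BlockOrth.degVal_le ξ)
        (((Fact.out : (ringChar F).Prime).pow_dvd_iff_le_factorization
          (BlockOrth.irr_charDegree_ne_zero ξ)).1 hξ)
    obtain ⟨s, hs, hsξ⟩ := exists_simple_of_defect_zero hV hM.2.2 ξ hdeg
    have hdim : Module.finrank (Res V) (Fin s.1 → Res V) = charDegree (ξ : ↥(D.group F) → ℂ) := by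
      have h1 := congrFun hsξ 1
      rw [bch_one, BlockOrth.irr_apply_one, Nat.cast_inj] at h1
      exact h1
    haveI := hs.nontrivial
    obtain ⟨v, hv⟩ := exists_isWt h s.2
    obtain ⟨L, c, hvc⟩ := exists_hasWt hv
    obtain ⟨X, hX1, hX2⟩ := exists_wgt h hvc
    rw [← hX1, ← hX2] at hvc
    have hX := wgt_of_full_dim h hs (hdim ▸ hξ) X hvc
    obtain ⟨⟨Xl, XK⟩, hXp⟩ := X
    obtain ⟨rfl, rfl⟩ := Prod.ext_iff.1 hX
    exact ⟨s, hs, hsξ, v, hvc⟩
  obtain ⟨s, hs, hsχ, v, hv⟩ := key χ hχ
  obtain ⟨t, ht, htχ, w, hw⟩ := key χ' hχ'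
  obtain ⟨e, he⟩ := iso_of_weight h hs ht hv hw
  exact Subtype.ext (hsχ.symm.trans ((bch_congr e he).trans htχ))

/-- **the Steinberg character is the only one of defect zero** -/
theorem eq_steinberg_of_defect_zero (h : Std D A) (p : ℕ) [Fact p.Prime] [CharP F p]
    (χ : ↥(D.group F) → ℂ) (hχ : IsIrrCharacter ↥(D.group F) χ)
    (hdeg : ∃ d : ℕ, χ 1 = (d : ℂ) ∧ p ^ (Nat.card ↥(D.group F)).factorization p ∣ d) :
    χ = D.steinbergCharacter F := by
  haveI : Finite (GL D.Idx F) := finite_GL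
  obtain ⟨d, hd, hdvd⟩ := hdeg
  have hc : ∀ (ξ : ↥(D.group F) → ℂ) (hξ : IsIrrCharacter ↥(D.group F) ξ) (n : ℕ), ξ 1 = (n : ℂ) →
      charDegree ξ = n := fun ξ hξ n hn => by
    have := BlockOrth.irr_apply_one (⟨ξ, hξ⟩ : IrrCharacter ↥(D.group F))
    exact Nat.cast_injective (R := ℂ) (this.symm.trans hn)
  have hS := isIrr_steinberg (F := F) h
  refine congrArg Subtype.val (eq_of_defect_zero h p ⟨χ, hχ⟩ ⟨_, hS⟩
    (by rw [hc χ hχ d hd]; exact hdvd) ?_)
  obtain ⟨m, hm, hcard⟩ := card_group_eq (F := F) h (p := p)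
  obtain ⟨k, -, hq⟩ := FiniteField.card F p
  rw [hc _ hS (Fintype.card F ^ (D.nroots / 2)) (by rw [steinberg_one h]; push_cast; rfl), hcard, hq,
    ← pow_mul]
  refine pow_dvd_pow p (le_of_eq ?_)
  have hp : p.Prime := Fact.out
  rw [Nat.factorization_mul (pow_pos hp.pos _).ne' (fun e : m = 0 => hm (by rw [e]; exact dvd_zero p)), Finsupp.add_apply,
    Nat.factorization_eq_zero_of_not_dvd hm, hp.factorization_pow, Finsupp.single_eq_same, add_zero]

end CfsgLib.Chev.Weights
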