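import Cfsg.Agent.Lib.Chev.Weights.RankOne
import Cfsg.Agent.Lib.Chev.Unipotents

/-!
The subgroup of a standard parabolic generated by its unipotent elements: its intersection with the torus
is generated by the coroots of the parabolic.
-/

set_option autoImplicit false

namespace CfsgLib.Chev.Weights

open Cfsg.Lie

variable {D : ChevalleyDatum} {A : Aux} {F : Type*} [Field F]

/-- the torus generated by the coroots in `K` -/
noncomputable def torK (D : ChevalleyDatum) (A : Aux) (F : Type*) [Field F] (K : Finset ℕ) :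
    Subgroup (GL D.Idx F) :=
  Subgroup.map (tor D A)
    { carrier := {c : Fin D.rank → Fˣ | ∀ i : Fin D.rank, (i : ℕ) ∉ K → c i = 1}
      mul_mem' := fun {a b} ha hb i hi => by simp [ha i hi, hb i hi]
      one_mem' := fun i _ => rfl
      inv_mem' := fun {a} ha i hi => by simp [ha i hi] }

/-- `W_K` with its torus -/
noncomputable def WN (g : Good D A) (K : Finset ℕ) : Subgroup (GL D.Idx F) := WJ F g K ⊔ torK D A F K

theorem mem_torK {K : Finset ℕ} {x : GL D.Idx F} :
    x ∈ torK D A F K ↔ ∃ c : Fin D.rank → Fˣ, (∀ i : Fin D.rank, (i : ℕ) ∉ K → c i = 1) ∧ tor D A c = x :=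
  Iff.rfl

theorem torK_le_diagonal (g : Good D A) (K : Finset ℕ) : torK D A F K ≤ D.diagonalSubgroup F := by
  rintro x ⟨c, -, rfl⟩
  rw [diagonalSubgroup_eq g]
  exact ⟨c, rfl⟩

theorem nS_conj_torK (g : Good D A) {K : Finset ℕ} {j : ℕ} (hj : j ∈ K) (hj' : j < D.rank)
    {x : GL D.Idx F} (hx : x ∈ torK D A F K) : nS F g j * x * (nS F g j)⁻¹ ∈ torK D A F K := by
  obtain ⟨c, hc, rfl⟩ := hx
  refine ⟨_, fun i hi => ?_, (nS_conj_tor g hj' c).symm⟩
  have : i ≠ ⟨j, hj'⟩ := fun e => hi (by rw [e]; exact hj)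
  simp [hc i hi, this]

theorem hS_mem_torK {K : Finset ℕ} {j : ℕ} (hj : j ∈ K) (hj' : j < D.rank) (t : Fˣ) :
    (hS D A hj' t : GL D.Idx F) ∈ torK D A F K :=
  ⟨Pi.mulSingle ⟨j, hj'⟩ t, fun i hi => Pi.mulSingle_eq_of_ne (fun e => hi (by rw [e]; exact hj)) _, rfl⟩

theorem nS_sq_torK (g : Good D A) {K : Finset ℕ} {j : ℕ} (hj : j ∈ K) (hj' : j < D.rank) :
    nS F g j * nS F g j ∈ torK D A F K := by
  rw [nS_sq g hj']
  have := hG_simple g ⟨j, hj'⟩ (-1 : Fˣ)
  simp only [Units.val_neg, Units.val_one] at this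
  rw [this]
  exact inv_mem (hS_mem_torK hj hj' _)

/-- products of fundamental monomial elements -/
noncomputable def nP (F : Type*) [Field F] (g : Good D A) (l : List ℕ) : GL D.Idx F :=
  (l.map (nS F g)).prod

/-- the root permutation of a word -/
noncomputable def rP (A : Aux) (l : List ℕ) : ℕ → ℕ := l.foldr (fun i σ => A.refl i ∘ σ) id

theorem rP_append (l l' : List ℕ) (r : ℕ) : rP A (l ++ l') r = rP A l (rP A l' r) := by
  induction l with
  | nil => rfl
  | cons a l ih => simp only [rP, List.cons_append, List.foldr_cons, Function.comp_apply] at ih ⊢; rw [ih]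

/-- the letters lie in `K` -/
def InK (D : ChevalleyDatum) (K : Finset ℕ) (l : List ℕ) : Prop := ∀ i ∈ l, i ∈ K ∧ i < D.rank

theorem acts_nP (g : Good D A) {K : Finset ℕ} : ∀ {l : List ℕ}, InK D K l →
    Acts g (nP F g l) (rP A l) := by
  intro l
  induction l with
  | nil => intro _; simpa [nP, rP] using acts_tor (F := F) g 1
  | cons a l ih =>
    intro hl
    have := (acts_nS (F := F) g (hl a (List.mem_cons_self)).2).mul
      (ih fun i hi => hl i (List.mem_cons_of_mem _ hi))
    simpa [nP, rP] using this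

theorem nP_conj_torK (g : Good D A) {K : Finset ℕ} : ∀ {l : List ℕ}, InK D K l → ∀ {x : GL D.Idx F},
    x ∈ torK D A F K → nP F g l * x * (nP F g l)⁻¹ ∈ torK D A F K := by
  intro l
  induction l with
  | nil => intro _ x hx; simpa [nP] using hx
  | cons a l ih =>
    intro hl x hx
    have h1 := hl a (List.mem_cons_self)
    have h2 := ih (fun i hi => hl i (List.mem_cons_of_mem _ hi)) hx
    have := nS_conj_torK g h1.1 h1.2 h2
    simpa [nP, mul_assoc] using this

theorem nP_conj_nG (g : Good D A) {K : Finset ℕ} : ∀ {l : List ℕ}, InK D K l → ∀ {r : ℕ},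
    r < D.nroots → ∃ e : F, e * e = 1 ∧
      nP F g l * nG g r 1 * (nP F g l)⁻¹ = nG g (rP A l r) e := by
  intro l
  induction l with
  | nil => intro _ r _; exact ⟨1, one_mul 1, by simp [nP, rP]⟩
  | cons a l ih =>
    intro hl r hr
    have h1 := (hl a (List.mem_cons_self)).2
    have hl' : InK D K l := fun i hi => hl i (List.mem_cons_of_mem _ hi)
    obtain ⟨e, he, heq⟩ := ih hl' hr
    have hlt := (acts_nP (F := F) g hl').map.1 r hr
    refine ⟨(A.eta a (rP A l r) : F) * e, ?_, ?_⟩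
    · rw [mul_mul_mul_comm, he, mul_one, eta_sq g h1 hlt]
    · have := nS_conj_nG g h1 hlt e
      rw [← heq] at this
      simpa [nP, rP, mul_assoc] using this

theorem nP_inv_conj_torK (g : Good D A) {K : Finset ℕ} : ∀ {l : List ℕ}, InK D K l →
    ∀ {x : GL D.Idx F}, x ∈ torK D A F K → (nP F g l)⁻¹ * x * nP F g l ∈ torK D A F K := by
  intro l
  induction l with
  | nil => intro _ x hx; simpa [nP] using hx
  | cons a l ih =>
    intro hl x hx
    have h1 := hl a (List.mem_cons_self)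
    have hsq := nS_sq_torK (F := F) g h1.1 h1.2
    have h2 := nS_conj_torK g h1.1 h1.2 (mul_mem (mul_mem (inv_mem hsq) hx) hsq)
    have := ih (fun i hi => hl i (List.mem_cons_of_mem _ hi)) h2
    simp only [nP, List.map_cons, List.prod_cons] at this ⊢
    convert this using 1
    group

theorem exists_list (g : Good D A) {K : Finset ℕ} {x : GL D.Idx F} (hx : x ∈ WN g K) :
    ∃ l, InK D K l ∧ ∃ t ∈ torK D A F K, x = nP F g l * t := by
  rw [WN, WJ, ← Subgroup.closure_eq (torK D A F K), ← Subgroup.closure_union] at hx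
  induction hx using Subgroup.closure_induction_left with
  | one => exact ⟨[], fun i hi => absurd hi List.not_mem_nil, 1, one_mem _, by simp [nP]⟩
  | mul_left y hy z _ ih =>
    obtain ⟨l, hl, t, ht, rfl⟩ := ih
    rcases hy with ⟨j, hj, hj', rfl⟩ | hy
    · exact ⟨j :: l, fun i hi => by
        rcases List.mem_cons.1 hi with rfl | hi
        exacts [⟨hj, hj'⟩, hl i hi], t, ht, by simp [nP, mul_assoc]⟩
    · exact ⟨l, hl, (nP F g l)⁻¹ * y * nP F g l * t, mul_mem (nP_inv_conj_torK g hl hy) ht, by group⟩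
  | inv_mul_cancel y hy z _ ih =>
    obtain ⟨l, hl, t, ht, rfl⟩ := ih
    rcases hy with ⟨j, hj, hj', rfl⟩ | hy
    · refine ⟨j :: l, fun i hi => by
        rcases List.mem_cons.1 hi with rfl | hi
        exacts [⟨hj, hj'⟩, hl i hi],
        (nP F g l)⁻¹ * ((nS F g j * nS F g j))⁻¹ * nP F g l * t,
        mul_mem (nP_inv_conj_torK g hl (inv_mem (nS_sq_torK g hj hj'))) ht, ?_⟩
      simp only [nP, List.map_cons, List.prod_cons]
      group
    · exact ⟨l, hl, (nP F g l)⁻¹ * y⁻¹ * nP F g l * t,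
        mul_mem (nP_inv_conj_torK g hl (inv_mem hy)) ht, by group⟩

/-- a word acting trivially lies in the coroot torus -/
theorem nP_mem_torK (g : Good D A) {K : Finset ℕ} : ∀ {l : List ℕ}, InK D K l →
    (∀ r < D.nroots, rP A l r = r) → nP F g l ∈ torK D A F K := by
  suffices ∀ m, ∀ {l : List ℕ}, l.length = m → InK D K l → (∀ r < D.nroots, rP A l r = r) →
      nP F g l ∈ torK D A F K from fun {l} => this _ rfl
  intro m
  induction m using Nat.strong_induction_on with
  | _ m ih =>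
    intro l hlen hl hid
    rcases List.eq_nil_or_concat l with rfl | ⟨Q, b, rfl⟩
    · simpa [nP] using one_mem (torK D A F K)
    rw [List.concat_eq_append] at hl hid hlen ⊢
    have hb := (hl b (by simp)).2
    have hQ : InK D K Q := fun i hi => hl i (List.mem_append_left _ hi)
    have hsb := g.simple_lt b hb
    have hQneg : ¬ D.IsPosRoot (rP A Q (D.simple b)) := by
      intro hp
      have h1 := hid _ hsb
      rw [rP_append] at h1
      simp only [rP, List.foldr_cons, List.foldr_nil, Function.comp_apply, id_eq] at h1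
      rw [refl_simple g hb] at h1
      have h2 : rP A Q (A.neg (D.simple b)) = D.simple b := h1
      rw [(acts_nP (F := F) g hQ).map.map_neg g hsb] at h2
      exact not_pos_neg g hp (by rw [h2]; exact simple_pos g hb)
    -- find the letter where the root becomes negative
    have hfind : ∀ Q : List ℕ, InK D K Q → ¬ D.IsPosRoot (rP A Q (D.simple b)) →
        ∃ Q₁ a P, Q = Q₁ ++ a :: P ∧ rP A P (D.simple b) = D.simple a := by
      intro Q
      induction Q with
      | nil => intro _ h; exact absurd (simple_pos g hb) h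
      | cons a Q ihQ =>
        intro hQ hneg
        by_cases hp : D.IsPosRoot (rP A Q (D.simple b))
        · refine ⟨[], a, Q, rfl, ?_⟩
          by_contra hne
          exact hneg (refl_pos g (hQ a List.mem_cons_self).2 hp hne).1
        · obtain ⟨Q₁, a', P, e, h⟩ := ihQ (fun i hi => hQ i (List.mem_cons_of_mem _ hi)) hp
          exact ⟨a :: Q₁, a', P, by rw [e]; rfl, h⟩
    obtain ⟨Q₁, a, P, rfl, hP⟩ := hfind Q hQ hQneg
    have ha := hQ a (List.mem_append_right _ List.mem_cons_self)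
    have hQ₁ : InK D K Q₁ := fun i hi => hQ i (List.mem_append_left _ hi)
    have hPK : InK D K P := fun i hi => hQ i (List.mem_append_right _ (List.mem_cons_of_mem _ hi))
    obtain ⟨e, he, heq⟩ := nP_conj_nG (F := F) g hPK hsb
    rw [hP] at heq
    have hsplit : nP F g (Q₁ ++ a :: P ++ [b]) =
        nP F g Q₁ * (nS F g a * (nP F g P * nG g (D.simple b) 1 * (nP F g P)⁻¹)) * nP F g P := by
      simp only [nP, nS, List.map_append, List.prod_append, List.map_cons, List.prod_cons,
        List.map_nil, List.prod_nil, mul_one]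
      group
    obtain ⟨t, ht, htQ⟩ : ∃ t ∈ torK D A F K, nS F g a * nG g (D.simple a) e = t := by
      rcases mul_self_eq_one_iff.1 he with rfl | rfl
      · exact ⟨_, nS_sq_torK g ha.1 ha.2, rfl⟩
      · refine ⟨1, one_mem _, ?_⟩
        rw [nG_neg g (g.simple_lt a ha.2), nS, mul_inv_cancel]
    have hrec : nP F g (Q₁ ++ a :: P ++ [b]) =
        (nP F g Q₁ * t * (nP F g Q₁)⁻¹) * nP F g (Q₁ ++ P) := by
      rw [hsplit, heq, htQ]
      simp only [nP, List.map_append, List.prod_append]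
      group
    rw [hrec]
    refine mul_mem (nP_conj_torK g hQ₁ ht) (ih (Q₁ ++ P).length ?_ rfl ?_ ?_)
    · rw [← hlen]; simp
    · intro i hi
      rcases List.mem_append.1 hi with h | h
      exacts [hQ₁ i h, hPK i h]
    · intro r hr
      have h1 : Acts g (nP F g (Q₁ ++ a :: P ++ [b])) (rP A (Q₁ ++ a :: P ++ [b])) := acts_nP g hl
      rw [hrec] at h1
      have h2 := (acts_diag g (torK_le_diagonal g K (nP_conj_torK g hQ₁ ht))).mul
        (acts_nP (F := F) g (l := Q₁ ++ P) (fun i hi => by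
          rcases List.mem_append.1 hi with h | h
          exacts [hQ₁ i h, hPK i h]))
      have h3 := h2.unique h1 hr
      rw [Function.comp_apply, id_eq] at h3
      rw [h3, hid r hr]

theorem WN_le_monomial (g : Good D A) (K : Finset ℕ) : WN g K ≤ D.monomialSubgroup (F := F) :=
  sup_le (WJ_le_monomial g K) ((torK_le_diagonal g K).trans diag_le_monomial)

theorem WN_acts (g : Good D A) {K : Finset ℕ} {x : GL D.Idx F} (hx : x ∈ WN g K) :
    ∃ σ, Acts g x σ ∧ ∀ r < D.nroots, ∀ i < D.rank, i ∉ K → A.a (σ r) i = A.a r i := by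
  obtain ⟨l, hl, t, ht, rfl⟩ := exists_list g hx
  have hlJ : nP F g l ∈ WJ F g K := by
    refine Subgroup.list_prod_mem _ fun y hy => ?_
    obtain ⟨j, hj, rfl⟩ := List.mem_map.1 hy
    exact nS_mem_WJ g (hl j hj).1 (hl j hj).2
  obtain ⟨σ, hσ, h⟩ := WJ_acts g hlJ
  exact ⟨σ ∘ id, hσ.mul (acts_diag g (torK_le_diagonal g K ht)), h⟩

theorem WN_inf_diagonal (g : Good D A) {K : Finset ℕ} {x : GL D.Idx F} (hx : x ∈ WN g K)
    (hd : x ∈ D.diagonalSubgroup F) : x ∈ torK D A F K := by
  obtain ⟨l, hl, t, ht, rfl⟩ := exists_list g hx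
  refine mul_mem (nP_mem_torK g hl fun r hr => ?_) ht
  have h1 : nP F g l ∈ D.diagonalSubgroup F := by
    have := mul_mem hd (inv_mem (torK_le_diagonal g K ht))
    rwa [mul_inv_cancel_right] at this
  exact (acts_nP g hl).unique (acts_diag g h1) hr

/-- the subgroup generated by the unipotent elements of a parabolic -/
noncomputable def PK (g : Good D A) (K : Finset ℕ) : Subgroup (GL D.Idx F) :=
  D.posUnipotent F ⊔ WN g K

theorem tor_conj_pos_mem (g : Good D A) {t u : GL D.Idx F} (ht : t ∈ D.diagonalSubgroup F)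
    (hu : u ∈ D.posUnipotent F) : t * u * t⁻¹ ∈ D.posUnipotent F := by
  rw [diagonalSubgroup_eq g] at ht
  obtain ⟨c, rfl⟩ := ht
  exact tor_conj_posUnipotent g c hu

theorem step_cell (h : Std D A) {K : Finset ℕ} {j : ℕ} (hj : j ∈ K) (hj' : j < D.rank)
    {u m v : GL D.Idx F} (hu : u ∈ D.posUnipotent F) (hm : m ∈ WN h.good K)
    (hv : v ∈ D.posUnipotent F) :
    ∃ u' ∈ D.posUnipotent F, ∃ m' ∈ WN h.good K, ∃ v' ∈ D.posUnipotent F,
      nS F h.good j * (u * m * v) = u' * m' * v' := by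
  have g := h.good
  obtain ⟨w, hw, b, rfl⟩ := pos_decomp h hj' hu
  obtain ⟨σ, hσ⟩ := exists_acts h.good (WN_le_monomial _ _ hm)
  obtain ⟨q, hq, hσq⟩ := hσ.surj (g.simple_lt j hj')
  set p := D.simple j with hp
  have hw' : nS F h.good j * w * (nS F h.good j)⁻¹ ∈ D.posUnipotent F :=
    UP_posBut_le _ j (nS_conj_posBut h hj' hw)
  have hnm : nS F h.good j * m ∈ WN h.good K :=
    mul_mem (Subgroup.mem_sup_left (nS_mem_WJ h.good hj hj')) hm
  rcases pos_or_pos_neg h.good hq with hpos | hneg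
  · obtain ⟨b', hb'⟩ := hσ.push hq b
    rw [hσq] at hb'
    refine ⟨_, hw', _, hnm, xG h.good q b' * v, mul_mem (xG_mem_posUnipotent _ hpos b') hv, ?_⟩
    rw [show nS F h.good j * (w * xG h.good p b * m * v) =
      nS F h.good j * w * (nS F h.good j)⁻¹ * (nS F h.good j * (xG h.good p b * m) * v) by group, hb']
    group
  rcases eq_or_ne b 0 with rfl | hb
  · refine ⟨_, hw', _, hnm, v, hv, ?_⟩
    rw [xG_zero]
    group
  set s := Units.mk0 b hb
  set n := nS F h.good j
  have hhs := hS_mem_torK (A := A) (F := F) hj hj' (-s)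
  obtain ⟨a', ha'⟩ := hσ.push (g.neg_lt q hq) ((A.eta j p : F) * (-((s⁻¹ : Fˣ) : F)))
  rw [hσ.map.map_neg h.good hq, hσq] at ha'
  refine ⟨n * w * n⁻¹ * xG h.good p ((A.eta j (A.neg p) : F) * ((s⁻¹ : Fˣ) : F)),
    mul_mem hw' (xG_mem_posUnipotent _ (simple_pos h.good hj') _),
    n * hS D A hj' (-s) * n⁻¹ * m, mul_mem (Subgroup.mem_sup_right (nS_conj_torK h.good hj hj' hhs)) hm,
    xG h.good (A.neg q) a' * v, mul_mem (xG_mem_posUnipotent _ hneg a') hv, ?_⟩
  have e1 : xG h.good p b * n = xG h.good (A.neg p) ((s⁻¹ : Fˣ) : F) * hS D A hj' (-s) *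
      xG h.good p (-((s⁻¹ : Fˣ) : F)) := x_mul_n h.good hj' s
  calc n * (w * xG h.good p b * m * v)
      = n * w * n⁻¹ * (n * (xG h.good p b * n) * n⁻¹ * m) * v := by group
    _ = n * w * n⁻¹ * ((n * xG h.good (A.neg p) ((s⁻¹ : Fˣ) : F)) * hS D A hj' (-s) * n⁻¹ *
          ((n * xG h.good p (-((s⁻¹ : Fˣ) : F))) * n⁻¹) * m) * v := by rw [e1]; group
    _ = _ := by
      rw [n_mul_y h.good hj', n_mul_x h.good hj']
      have e2 : xG h.good (A.neg p) ((A.eta j p : F) * -((s⁻¹ : Fˣ) : F)) * nS F h.good j * n⁻¹ * m =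
          m * xG h.good (A.neg q) a' := by
        rw [mul_inv_cancel_right, ha']
      simp only [p, n] at e2 ⊢
      calc _ = nS F h.good j * w * (nS F h.good j)⁻¹ *
            (xG h.good (D.simple j) ((A.eta j (A.neg (D.simple j)) : F) * ((s⁻¹ : Fˣ) : F)) *
              nS F h.good j * hS D A hj' (-s) * (nS F h.good j)⁻¹) *
            (xG h.good (A.neg (D.simple j)) ((A.eta j (D.simple j) : F) * -((s⁻¹ : Fˣ) : F)) *
              nS F h.good j * (nS F h.good j)⁻¹ * m) * v := by group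
        _ = _ := by rw [e2]; group

theorem mem_PK_cell (h : Std D A) {K : Finset ℕ} {y : GL D.Idx F} (hy : y ∈ PK h.good K) :
    ∃ u ∈ D.posUnipotent F, ∃ m ∈ WN h.good K, ∃ v ∈ D.posUnipotent F, y = u * m * v := by
  have g := h.good
  have htor : ∀ t ∈ torK D A F K, ∀ u ∈ D.posUnipotent F, ∀ m ∈ WN h.good K, ∀ v ∈ D.posUnipotent F,
      ∃ u' ∈ D.posUnipotent F, ∃ m' ∈ WN h.good K, ∃ v' ∈ D.posUnipotent F,
        t * (u * m * v) = u' * m' * v' := fun t ht u hu m hm v hv =>
    ⟨_, tor_conj_pos_mem h.good (torK_le_diagonal h.good K ht) hu, t * m,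
      mul_mem (Subgroup.mem_sup_right ht) hm, v, hv, by group⟩
  rw [PK, WN, WJ, ← Subgroup.closure_eq (D.posUnipotent F), ← Subgroup.closure_eq (torK D A F K),
    ← Subgroup.closure_union, ← Subgroup.closure_union] at hy
  induction hy using Subgroup.closure_induction_left with
  | one => exact ⟨1, one_mem _, 1, one_mem _, 1, one_mem _, by simp⟩
  | mul_left x hx z _ ih =>
    obtain ⟨u, hu, m, hm, v, hv, rfl⟩ := ih
    rcases hx with hx | ⟨j, hj, hj', rfl⟩ | hx
    · exact ⟨x * u, mul_mem hx hu, m, hm, v, hv, by group⟩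
    · exact step_cell h hj hj' hu hm hv
    · exact htor x hx u hu m hm v hv
  | inv_mul_cancel x hx z _ ih =>
    obtain ⟨u, hu, m, hm, v, hv, rfl⟩ := ih
    rcases hx with hx | ⟨j, hj, hj', rfl⟩ | hx
    · exact ⟨x⁻¹ * u, mul_mem (inv_mem hx) hu, m, hm, v, hv, by group⟩
    · obtain ⟨u₁, hu₁, m₁, hm₁, v₁, hv₁, e⟩ := step_cell h hj hj' hu hm hv
      obtain ⟨u₂, hu₂, m₂, hm₂, v₂, hv₂, e'⟩ :=
        htor _ (inv_mem (nS_sq_torK h.good hj hj')) u₁ hu₁ m₁ hm₁ v₁ hv₁
      refine ⟨u₂, hu₂, m₂, hm₂, v₂, hv₂, ?_⟩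
      rw [← e', ← e]
      group
    · exact htor _ (inv_mem hx) u hu m hm v hv

theorem PK_le_parabolic (g : Good D A) (K : Finset ℕ) :
    PK g K ≤ D.parabolicSubgroup F (K : Set ℕ) :=
  sup_le (pos_le_borel.trans (borel_le_parabolic _))
    (sup_le (WJ_le_parabolic g K)
      ((torK_le_diagonal g K).trans (diagonal_le_borel.trans (borel_le_parabolic _))))

/-- the opposite form of the cells -/
theorem PK_opposite (h : Para D A) {K : Finset ℕ} {y : GL D.Idx F} (hy : y ∈ PK h.std.good K) :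
    ∃ u ∈ D.posUnipotent F, ∃ m ∈ WN h.std.good K, ∃ v ∈ D.negUnipotent F, y = u * m * v := by
  have g := h.std.good
  obtain ⟨n, hn, σ, hσ, hneg⟩ := exists_big (F := F) h.std K
  have hnW : n ∈ WN h.std.good K := Subgroup.mem_sup_left hn
  obtain ⟨u, hu, m, hm, v, hv, e⟩ := mem_PK_cell h.std (mul_mem hy (Subgroup.mem_sup_right hnW))
  set Q : ℕ → Prop := fun r => InJ D A (K : Set ℕ) r ∧ D.IsPosRoot r
  have hle : D.posUnipotent F ≤ UP F g (OutJ D A (K : Set ℕ)) ⊔ UP F g Q := by
    rw [posUnipotent_eq g]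
    refine (Subgroup.closure_le _).2 ?_
    rintro y ⟨r, t, hr, rfl⟩
    by_cases hin : InJ D A (K : Set ℕ) r
    · exact (le_sup_right : _ ≤ UP F g (OutJ D A (K : Set ℕ)) ⊔ UP F g Q) (xG_mem_UP g ⟨hin, hr⟩ t)
    · exact (le_sup_left : _ ≤ UP F g (OutJ D A (K : Set ℕ)) ⊔ UP F g Q)
        (xG_mem_UP g ((outJ_iff h).2 ⟨hr, fun hc => hin ((inRootSub_iff h).1 hc)⟩) t)
  have hv' : v ∈ ((UP F g (OutJ D A (K : Set ℕ)) ⊔ UP F g Q : Subgroup _) : Set (GL D.Idx F)) := hle hv
  rw [Subgroup.coe_mul_of_right_le_normalizer_left _ _ (le_trans ?_ (parabolic_le_normalizer h _))] at hv'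
  swap
  · exact UP_le fun r t hr => borel_le_parabolic _ (xG_mem_borel g hr.2 t)
  obtain ⟨r, hr, l, hl, rfl⟩ := hv'
  have hr' : r ∈ D.unipotentRadical F (K : Set ℕ) := by rw [radical_eq h]; exact hr
  have hmP := PK_le_parabolic g K (Subgroup.mem_sup_right hm)
  have h2 : n * l * n⁻¹ ∈ D.negUnipotent F := by
    have hn' := inv_mem (WJ_le_monomial g K hn)
    obtain ⟨τ, hτ, hτσ⟩ := acts_inv g (WJ_le_monomial g K hn) hσ
    exact conj_UP_le (P := Q) hσ (fun r hr => hr.2.1) (K := D.negUnipotent F)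
      (fun r t hr => xG_mem_negUnipotent g
        (neg_inJ h.std hσ.map hneg hr.2 fun i hi hiK => hr.1.2 i hi (by simpa using hiK)) t) hl
  refine ⟨u * (m * r * m⁻¹), mul_mem hu (radical_le_posUnipotent h K (radical_conj h hmP hr')),
    m * n⁻¹, mul_mem hm (inv_mem hnW), n * l * n⁻¹, h2, ?_⟩
  rw [← mul_inv_cancel_right y n, e]
  group

end CfsgLib.Chev.Weights
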