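import Cfsg.Agent.Lib.Chev.Weights.Exist
import Cfsg.Agent.Lib.Chev.TorusCard
import Cfsg.Agent.Lib.Modular.SimpleCount
import Cfsg.Agent.Lib.CharApps.AbelianSylow

/-!
Steinberg: the Chevalley groups with trivial torus kernel have `q^l` semisimple classes, which is the
number of their simple modules in the defining characteristic.
-/

set_option autoImplicit false

namespace CfsgLib.Chev.Weights

open Cfsg Cfsg.Lie CfsgLib.Modular CfsgLib.BrauerChar

variable {D : ChevalleyDatum} {A : Aux} {F : Type*} [Field F] {k : Type*} [Field k]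

/-- admissible weights -/
def Wgt (D : ChevalleyDatum) (F : Type*) [Field F] (k : Type*) [Field k] : Type _ :=
  {P : (Fin D.rank → (Fˣ →* kˣ)) × Finset (Fin D.rank) // ∀ j ∈ P.2, P.1 j = 1}

/-- the torus character of a weight -/
noncomputable def lam (l : Fin D.rank → (Fˣ →* kˣ)) : (Fin D.rank → Fˣ) →* kˣ :=
  ∏ i, (l i).comp (Pi.evalMonoidHom (fun _ : Fin D.rank => Fˣ) i)

theorem lam_apply (l : Fin D.rank → (Fˣ →* kˣ)) (c : Fin D.rank → Fˣ) :
    lam l c = ∏ i, l i (c i) := by
  simp [lam]

theorem lam_single (l : Fin D.rank → (Fˣ →* kˣ)) (i : Fin D.rank) (t : Fˣ) :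
    lam l (Pi.mulSingle i t) = l i t := by
  rw [lam_apply, Finset.prod_eq_single i]
  · rw [Pi.mulSingle_eq_same]
  · intro j _ hj; rw [Pi.mulSingle_eq_of_ne hj, map_one]
  · simp

theorem lam_factor (φ : (Fin D.rank → Fˣ) →* kˣ) :
    lam (fun i => φ.comp (MonoidHom.mulSingle (fun _ : Fin D.rank => Fˣ) i)) = φ := by
  refine MonoidHom.ext fun c => ?_
  rw [lam_apply]
  conv_rhs => rw [← Finset.univ_prod_mulSingle c]
  rw [map_prod]
  rfl

theorem lam_inj {l l' : Fin D.rank → (Fˣ →* kˣ)} (e : lam l = lam l') : l = l' := by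
  funext i
  refine MonoidHom.ext fun t => ?_
  rw [← lam_single l, e, lam_single]

theorem adm_of_wgt (g : Good D A) (hinj : Function.Injective (tor D A : (Fin D.rank → Fˣ) →* GL D.Idx F))
    (W : Wgt D F k) : Adm g (W.1.2.map Fin.valEmbedding) (lam W.1.1) := by
  refine ⟨hinj, fun c hc => ?_, fun j hj => ?_⟩
  · rw [lam_apply]
    refine Finset.prod_eq_one fun i _ => ?_
    by_cases hi : i ∈ W.1.2
    · rw [W.2 i hi]; rfl
    · rw [hc i fun h => hi (by simpa [Fin.val_inj] using h), map_one]
  · obtain ⟨i, -, rfl⟩ := Finset.mem_map.1 hj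
    exact i.isLt

variable [Fintype F]

open Classical in
theorem Lsum_eq [CharP k (ringChar F)] (l : Fin D.rank → (Fˣ →* kˣ)) (j : Fin D.rank) :
    (Lsum (lam l) j : k) = if l j = 1 then -1 else 0 := by
  have h0 : (Fintype.card F : k) = 0 := by
    obtain ⟨p, hp⟩ := CharP.exists F
    obtain ⟨m, -, hm⟩ := FiniteField.card F p
    rw [hm, Nat.cast_pow, ← ringChar.eq F p, CharP.cast_eq_zero, zero_pow m.pos.ne']
  rw [Lsum]
  simp only [lam_single]
  have := sum_hom_units ((Units.coeHom k).comp (l j))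
  simp only [MonoidHom.comp_apply, Units.coeHom_apply] at this
  rw [this]
  have hiff : (Units.coeHom k).comp (l j) = 1 ↔ l j = 1 :=
    ⟨fun e => MonoidHom.ext fun t => Units.ext (DFunLike.congr_fun e t), fun e => by rw [e]; rfl⟩
  by_cases hl : l j = 1
  · rw [if_pos hl, if_pos (hiff.2 hl), Fintype.card_units, Nat.cast_sub Fintype.card_pos, h0,
      Nat.cast_one, zero_sub]
  · rw [if_neg hl, if_neg fun e => hl (hiff.1 e), Nat.cast_zero]

theorem card_wgt [IsAlgClosed k] [CharP k (ringChar F)] :
    Nat.card (Wgt D F k) = Fintype.card F ^ D.rank := by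
  classical
  have h0 : (Fintype.card F : k) = 0 := by
    obtain ⟨p, hp⟩ := CharP.exists F
    obtain ⟨m, -, hm⟩ := FiniteField.card F p
    rw [hm, Nat.cast_pow, ← ringChar.eq F p, CharP.cast_eq_zero, zero_pow m.pos.ne']
  haveI : NeZero ((Monoid.exponent Fˣ : ℕ) : k) := ⟨by
    rw [IsCyclic.exponent_eq_card, Nat.card_eq_fintype_card, Fintype.card_units,
      Nat.cast_sub Fintype.card_pos, h0, Nat.cast_one, zero_sub]
    exact neg_ne_zero.2 one_ne_zero⟩
  have hcard : Nat.card (Fˣ →* kˣ) = Fintype.card F - 1 := by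
    rw [CommGroup.card_monoidHom_of_hasEnoughRootsOfUnity, Nat.card_eq_fintype_card,
      Fintype.card_units]
  haveI : Finite (Fˣ →* kˣ) := Nat.finite_of_card_ne_zero (by
    rw [hcard]; have := Fintype.one_lt_card (α := F); omega)
  haveI := Fintype.ofFinite (Fˣ →* kˣ)
  let e : Wgt D F k ≃ (Fin D.rank → Option (Fˣ →* kˣ)) :=
    { toFun := fun W j => if j ∈ W.1.2 then none else some (W.1.1 j)
      invFun := fun f => ⟨(fun j => (f j).getD 1, Finset.univ.filter fun j => f j = none),
        fun j hj => by simp [(Finset.mem_filter.1 hj).2]⟩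
      left_inv := fun W => by
        refine Subtype.ext (Prod.ext (funext fun j => ?_) (Finset.ext fun j => ?_))
        · by_cases hj : j ∈ W.1.2
          · simp [hj, W.2 j hj]
          · simp [hj]
        · by_cases hj : j ∈ W.1.2 <;> simp [hj]
      right_inv := fun f => funext fun j => by cases hf : f j <;> simp [hf] }
  rw [Nat.card_congr e, Nat.card_pi, Finset.prod_const, Finset.card_univ, Fintype.card_fin,
    Nat.card_eq_fintype_card, Fintype.card_option, ← Nat.card_eq_fintype_card, hcard]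
  congr 1
  have := Fintype.one_lt_card (α := F)
  omega

open Classical in
/-- the Hecke eigenvalues of a weight -/
noncomputable def heckeVal (W : Wgt D F k) (j : Fin D.rank) : k :=
  if j ∈ W.1.2 then 0 else Lsum (lam W.1.1) j

theorem wgt_inj [CharP k (ringChar F)] {W W' : Wgt D F k}
    (h1 : (fun t => ((lam W.1.1 t : kˣ) : k)) = fun t => ((lam W'.1.1 t : kˣ) : k))
    (h2 : heckeVal W = heckeVal W') : W = W' := by
  classical
  have e : W.1.1 = W'.1.1 := lam_inj (MonoidHom.ext fun t => Units.ext (congrFun h1 t))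
  refine Subtype.ext (Prod.ext e (Finset.ext fun j => ?_))
  have h3 := congrFun h2 j
  simp only [heckeVal, Lsum_eq] at h3
  constructor <;> intro hj <;> by_contra hj'
  · simp [hj, hj', ← e, W.2 j hj] at h3
  · simp [hj, hj', e, W'.2 j hj] at h3

theorem exists_wgt [CharP k (ringChar F)] (h : Std D A) {W : Type*} [AddCommGroup W] [Module k W]
    {ρ : Representation k ↥(D.group F) W} {v : W} {L : (Fin D.rank → Fˣ) → k} {c : Fin D.rank → k}
    (hv : HasWt h.good ρ v L c) :
    ∃ X : Wgt D F k, (fun t => ((lam X.1.1 t : kˣ) : k)) = L ∧ heckeVal X = c := by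
  classical
  have hmul : ∀ s t, L (s * t) = L s * L t := fun s t => by
    refine smul_left_injective k hv.ne (?_ : L (s * t) • v = (L s * L t) • v)
    rw [← hv.tor, map_mul, rep_mul, hv.tor t, map_smul, hv.tor s, smul_smul, mul_comm]
  have hone : L 1 = 1 := by
    refine smul_left_injective k hv.ne (?_ : L 1 • v = (1 : k) • v)
    rw [← hv.tor, map_one, map_one, one_smul]
    rfl
  let φ : (Fin D.rank → Fˣ) →* kˣ :=
    MonoidHom.toHomUnits { toFun := L, map_one' := hone, map_mul' := hmul }
  set l : Fin D.rank → (Fˣ →* kˣ) := fun i => φ.comp (MonoidHom.mulSingle (fun _ : Fin D.rank => Fˣ) i)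
  have hl : ∀ t, ((lam l t : kˣ) : k) = L t := fun t => by rw [lam_factor φ]; rfl
  refine ⟨⟨(l, Finset.univ.filter fun j => l j = 1 ∧ c j = 0),
    fun j hj => (Finset.mem_filter.1 hj).2.1⟩, funext hl, funext fun j => ?_⟩
  have hq := Tj_Tj h ρ hv.fix (fun t => ⟨_, hv.tor t⟩) j.isLt (lam := fun s => L (Pi.mulSingle j (-s)))
    (fun s => hv.tor _)
  have hT : ∀ a : k, Tj h.good ρ j (a • v) = a • Tj h.good ρ j v := fun a => by
    simp [Tj, Finset.smul_sum]
  rw [hv.hecke, hT, hv.hecke, smul_smul, smul_smul] at hq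
  have hq' := smul_left_injective k hv.ne hq
  have hsum : ∑ s : Fˣ, L (Pi.mulSingle j (-s)) = Lsum (lam l) j := by
    rw [Lsum]
    exact Fintype.sum_equiv (Equiv.neg Fˣ) _ _ fun s => by simp [hl]
  rw [hsum, Lsum_eq] at hq'
  show (if j ∈ Finset.univ.filter (fun j => l j = 1 ∧ c j = 0) then 0 else Lsum (lam l) j) = c j
  rw [Lsum_eq]
  by_cases hlj : l j = 1
  · rw [if_pos hlj] at hq'
    by_cases hc : c j = 0
    · simp [hlj, hc]
    · simp only [Finset.mem_filter, hlj, hc, and_false, if_false, if_true]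
      exact (mul_right_cancel₀ hc hq').symm
  · rw [if_neg hlj, zero_mul] at hq'
    simp [hlj, mul_self_eq_zero.1 hq']

theorem tor_injective_of_card (g : Good D A)
    (hc : Nat.card (D.diagonalSubgroup F) = (Fintype.card F - 1) ^ D.rank) :
    Function.Injective (tor D A : (Fin D.rank → Fˣ) →* GL D.Idx F) := by
  classical
  rw [diagonalSubgroup_eq g, ← Subgroup.index_ker] at hc
  have h1 := Subgroup.card_mul_index (tor D A : (Fin D.rank → Fˣ) →* GL D.Idx F).ker
  rw [hc, Nat.card_pi, Finset.prod_const, Finset.card_univ, Fintype.card_fin,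
    Nat.card_eq_fintype_card (α := Fˣ), Fintype.card_units] at h1
  rw [← MonoidHom.ker_eq_bot_iff, Subgroup.eq_bot_iff_card]
  have := Fintype.one_lt_card (α := F)
  exact Nat.eq_of_mul_eq_mul_right (pow_pos (by omega) _) (h1.trans (one_mul _).symm)

theorem hasWt_map {W W' : Type*} [AddCommGroup W] [Module k W] [AddCommGroup W'] [Module k W']
    {g : Good D A} {ρ : Representation k ↥(D.group F) W} {σ : Representation k ↥(D.group F) W'}
    (f : W →ₗ[k] W') (hf : ∀ x w, f (ρ x w) = σ x (f w)) {v : W} (hne : f v ≠ 0)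
    {L : (Fin D.rank → Fˣ) → k} {c : Fin D.rank → k} (hv : HasWt g ρ v L c) :
    HasWt g σ (f v) L c :=
  ⟨hne, fun u hu => by rw [← hf, hv.fix u hu], fun t => by rw [← hf, hv.tor, map_smul],
    fun i => by
      rw [← map_smul, ← hv.hecke, Tj, Tj, map_sum]
      exact Finset.sum_congr rfl fun s _ => (hf _ _).symm⟩

set_option maxHeartbeats 1000000 in
/-- **every weight is the weight of a simple module** -/
theorem exists_simple_of_weight [IsAlgClosed k] [CharP k (ringChar F)] (h : Para D A)
    (hinj : Function.Injective (tor D A : (Fin D.rank → Fˣ) →* GL D.Idx F)) (X : Wgt D F k) :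
    ∃ (n : ℕ) (ρ : Representation k ↥(D.group F) (Fin n → k)), IsSimpleRep ρ ∧
      ∃ v, HasWt h.std.good ρ v (fun t => ((lam X.1.1 t : kˣ) : k)) (heckeVal X) := by
  classical
  haveI : Finite (GL D.Idx F) := finite_GL
  haveI := Fintype.ofFinite ↥(D.group F)
  have hA := adm_of_wgt h.std.good hinj X
  set K := X.1.2.map Fin.valEmbedding with hK
  set π := lt ↥(D.group F) k
  set f := wfun h.std.good K (lam X.1.1)
  have hf : HasWt h.std.good π f (fun t => ((lam X.1.1 t : kˣ) : k)) (heckeVal X) := by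
    have h1 := hasWt_wfun h hA
    have e : (fun j : Fin D.rank => if (j : ℕ) ∈ K then (0 : k) else Lsum (lam X.1.1) j) = heckeVal X :=
      funext fun j => by
        have : ((j : ℕ) ∈ K) ↔ j ∈ X.1.2 := by simp [hK, Fin.val_inj]
        rw [heckeVal]
        exact if_congr this rfl rfl
    rwa [e] at h1
  set M := negSpan π f
  have hM : IsInvar π M := negSpan_invar h.std π hf.isWt
  -- a maximal invariant subspace avoiding the vector
  have hex : ∃ d, ∃ N : Submodule k (↥(D.group F) → k), N ≤ M ∧ IsInvar π N ∧ f ∉ N ∧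
      Module.finrank k M - Module.finrank k N = d :=
    ⟨_, ⊥, bot_le, fun x w hw => by rw [Submodule.mem_bot] at hw ⊢; rw [hw, map_zero],
      fun e => hf.ne ((Submodule.mem_bot k).1 e), rfl⟩
  obtain ⟨N, hNM, hN, hfN, hd⟩ := Nat.find_spec hex
  let N' : Submodule k M := N.comap M.subtype
  have hN' : IsInvar (subRep π M hM) N' := fun x w hw => hN x _ hw
  let σ : Representation k ↥(D.group F) (M ⧸ N') :=
    { toFun := fun x => N'.mapQ N' (subRep π M hM x) (hN' x)
      map_one' := by
        refine LinearMap.ext fun w => ?_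
        induction w using Submodule.Quotient.induction_on with | _ w => simp
      map_mul' := fun x y => by
        refine LinearMap.ext fun w => ?_
        induction w using Submodule.Quotient.induction_on with | _ w => simp }
  set fM : M := ⟨f, mem_negSpan π f⟩
  have hfq : (Submodule.Quotient.mk fM : M ⧸ N') ≠ 0 := fun e =>
    hfN ((Submodule.Quotient.mk_eq_zero N').1 e)
  have hσ : IsSimpleRep σ := by
    refine ⟨⟨⟨_, _, hfq⟩⟩, fun U hU => ?_⟩
    set U' : Submodule k (↥(D.group F) → k) := (U.comap N'.mkQ).map M.subtype with hU'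
    have hU'inv : IsInvar π U' := by
      rintro x _ ⟨w, hw, rfl⟩
      exact ⟨subRep π M hM x w, hU x _ hw, rfl⟩
    by_cases hfU : f ∈ U'
    · right
      have hle : M ≤ U' := Submodule.span_le.2 fun w ⟨u, _, e⟩ => e ▸ hU'inv u _ hfU
      refine Submodule.eq_top_iff'.2 fun z => ?_
      obtain ⟨w, rfl⟩ := Submodule.Quotient.mk_surjective N' z
      obtain ⟨w', hw', e⟩ := hle w.2
      rwa [show w' = w from Subtype.ext e] at hw'
    · left
      have hNU : N ≤ U' := fun w hw => ⟨⟨w, hNM hw⟩, by
        show (Submodule.Quotient.mk _ : M ⧸ N') ∈ U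
        rw [(Submodule.Quotient.mk_eq_zero N').2 (show (⟨w, hNM hw⟩ : M) ∈ N' from hw)]
        exact zero_mem _, rfl⟩
      refine (Submodule.eq_bot_iff _).2 fun z hz => ?_
      obtain ⟨w, rfl⟩ := Submodule.Quotient.mk_surjective N' z
      refine (Submodule.Quotient.mk_eq_zero N').2 (show (w : ↥(D.group F) → k) ∈ N from ?_)
      by_contra hwN
      have hlt : N < U' := lt_of_le_of_ne hNU fun e => hwN (e ▸ ⟨w, hz, rfl⟩)
      have hU'M : U' ≤ M := Submodule.map_subtype_le M _
      have h1 := Submodule.finrank_lt_finrank_of_lt hlt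
      have h2 := Submodule.finrank_mono hU'M
      exact Nat.find_min hex (m := Module.finrank k M - Module.finrank k U') (by omega)
        ⟨U', hU'M, hU'inv, hfU, rfl⟩
  let b := (Module.finBasis k (M ⧸ N')).equivFun
  let τ : Representation k ↥(D.group F) (Fin (Module.finrank k (M ⧸ N')) → k) :=
    { toFun := fun x => b.conj (σ x)
      map_one' := by rw [map_one]; exact LinearEquiv.conj_id _
      map_mul' := fun x y => by rw [map_mul]; exact LinearEquiv.conj_comp _ (σ y) (σ x) }
  have hb : ∀ x w, b (σ x w) = τ x (b w) := fun x w => by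
    show _ = b.conj (σ x) (b w)
    rw [LinearEquiv.conj_apply_apply, LinearEquiv.symm_apply_apply]
  refine ⟨_, τ, ⟨?_, fun U hU => ?_⟩, b (Submodule.Quotient.mk fM), ?_⟩
  · haveI := hσ.nontrivial
    exact b.injective.nontrivial
  · have hinv : IsInvar σ (U.comap (b : (M ⧸ N') →ₗ[k] _)) := fun x w hw => by
      show b (σ x w) ∈ U
      rw [hb]
      exact hU x _ hw
    rcases hσ.eq_bot_or_top _ hinv with e | e
    · left
      refine (Submodule.eq_bot_iff _).2 fun z hz => ?_
      have h1 : b.symm z ∈ U.comap (b : (M ⧸ N') →ₗ[k] _) := by simpa using hz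
      rw [e, Submodule.mem_bot] at h1
      simpa using congrArg b h1
    · right
      refine Submodule.eq_top_iff'.2 fun z => ?_
      have h1 : b.symm z ∈ U.comap (b : (M ⧸ N') →ₗ[k] _) := e ▸ Submodule.mem_top
      simpa using h1
  · have h1 : HasWt h.std.good (subRep π M hM) fM (fun t => ((lam X.1.1 t : kˣ) : k)) (heckeVal X) :=
      ⟨fun e => hf.ne (congrArg Subtype.val e), fun u hu => Subtype.ext (hf.fix u hu),
        fun t => Subtype.ext (hf.tor t), fun i => Subtype.ext (by
          rw [Submodule.coe_smul, ← hf.hecke, Tj, Tj, Submodule.coe_sum]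
          rfl)⟩
    exact hasWt_map (σ := τ) ((b : (M ⧸ N') →ₗ[k] _).comp N'.mkQ)
      (fun x w => hb x (Submodule.Quotient.mk w))
      (fun e => hfq (b.injective (e.trans (map_zero b).symm))) h1

/-- **Steinberg's count of semisimple classes** -/
theorem card_regular_classes {D : ChevalleyDatum} {A : Aux} {F : Type*} [Field F] [Fintype F]
    (h : Para D A) (p : ℕ) [Fact p.Prime] [CharP F p]
    (hc : Nat.card (D.diagonalSubgroup F) = (Fintype.card F - 1) ^ D.rank) :
    Nat.card {C : ConjClasses ↥(D.group F) // ∃ g : ↥(D.group F),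
      ConjClasses.mk g = C ∧ ¬ p ∣ orderOf g} = Fintype.card F ^ D.rank := by
  classical
  haveI : Finite (GL D.Idx F) := finite_GL
  obtain rfl : p = ringChar F := (ringChar.eq F p).symm
  obtain ⟨M, hM⟩ := CharApps.exists_pModular (ringChar F)
  haveI := Blocks.isPrime_of_isPModular hM
  obtain ⟨V, hV⟩ := exists_place hM.2.2
  haveI hVp : CharP (Res V) (ringChar F) := hV.charP
  have hinj := tor_injective_of_card h.std.good hc
  refine (card_simpleChars (p := ringChar F) (G := ↥(D.group F)) hV).trans ?_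
  rw [← card_wgt (D := D) (F := F) (k := Res V), ← Nat.card_eq_card_finite_toFinset]
  choose n R hR v hv using fun X : Wgt D F (Res V) => exists_simple_of_weight h hinj X
  refine (Nat.card_congr (Equiv.ofBijective
    (fun X => (⟨bch (ringChar F) (R X), ⟨n X, R X⟩, hR X, rfl⟩ : simpleChars (ringChar F) V ↥(D.group F))) ⟨?_, ?_⟩)).symm
  · intro X Y e
    have e' : bch (ringChar F) (R X) = bch (ringChar F) (R Y) := congrArg Subtype.val e
    rcases exists_intertwiner_of_bch_eq (p := ringChar F) (s := ⟨n X, R X⟩) (t := ⟨n Y, R Y⟩) (hR X) (hR Y) e'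
      with ⟨f, hf0, hf⟩ | ⟨f, hf0, hf⟩
    · have hi := ((hR X).injective_or_eq_zero hf).resolve_right hf0
      have h1 := hasWt_map f hf (fun e => (hv X).ne (hi (e.trans (map_zero f).symm))) (hv X)
      obtain ⟨h2, h3⟩ := weight_unique h.std (hR Y) h1 (hv Y)
      exact wgt_inj h2 h3
    · have hi := ((hR Y).injective_or_eq_zero hf).resolve_right hf0
      have h1 := hasWt_map f hf (fun e => (hv Y).ne (hi (e.trans (map_zero f).symm))) (hv Y)
      obtain ⟨h2, h3⟩ := weight_unique h.std (hR X) h1 (hv X)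
      exact (wgt_inj h2 h3).symm
  · rintro ⟨φ, ⟨m, S⟩, hS, rfl⟩
    haveI := hS.nontrivial
    obtain ⟨w, hw⟩ := exists_isWt h.std S
    obtain ⟨L, c, hwc⟩ := exists_hasWt hw
    obtain ⟨X, hX1, hX2⟩ := exists_wgt h.std hwc
    have hvX := hv X
    rw [hX1, hX2] at hvX
    obtain ⟨e, he⟩ := iso_of_weight h.std (hR X) hS hvX hwc
    exact ⟨X, Subtype.ext (bch_congr e he)⟩

end CfsgLib.Chev.Weights
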