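import Cfsg.Agent.Lib.Chev.Weights.RankOne
import Cfsg.Agent.Lib.Modular.SimpleRep

/-!
Weight vectors of modules of a Chevalley group in the defining characteristic: the Hecke operators of the
fundamental reflections, existence of weight vectors, and the span of their negative unipotent orbit.
-/

set_option autoImplicit false

namespace CfsgLib.Chev.Weights

open Cfsg.Lie

variable {D : ChevalleyDatum} {A : Aux} {F : Type*} [Field F]

/-- the root element as an element of the group -/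
noncomputable def X (g : Good D A) (r : ℕ) (t : F) : ↥(D.group F) := ⟨xG g r t, xG_mem_group g r t⟩

/-- the fundamental monomial element as an element of the group -/
noncomputable def N (g : Good D A) (i : ℕ) : ↥(D.group F) := ⟨nS F g i, nS_mem_group g i⟩

/-- the torus inside the group -/
noncomputable def T (g : Good D A) : (Fin D.rank → Fˣ) →* ↥(D.group F) :=
  (tor D A).codRestrict (D.group F) fun c =>
    diagonalSubgroup_le_group g (by rw [diagonalSubgroup_eq g]; exact ⟨c, rfl⟩)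

@[simp] theorem coe_X (g : Good D A) (r : ℕ) (t : F) : ((X g r t : ↥(D.group F)) : GL D.Idx F) = xG g r t := rfl
@[simp] theorem coe_N (g : Good D A) (i : ℕ) : ((N g i : ↥(D.group F)) : GL D.Idx F) = nS F g i := rfl
@[simp] theorem coe_T (g : Good D A) (c : Fin D.rank → Fˣ) :
    ((T g c : ↥(D.group F)) : GL D.Idx F) = tor D A c := rfl

/-- `U` inside the group -/
abbrev UI (D : ChevalleyDatum) (F : Type*) [Field F] : Subgroup ↥(D.group F) :=
  (D.posUnipotent F).subgroupOf (D.group F)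

/-- `U⁻` inside the group -/
abbrev VI (D : ChevalleyDatum) (F : Type*) [Field F] : Subgroup ↥(D.group F) :=
  (D.negUnipotent F).subgroupOf (D.group F)

variable {k W : Type*} [Field k] [AddCommGroup W] [Module k W]

/-- fixed by `U` -/
def FixU (ρ : Representation k ↥(D.group F) W) (v : W) : Prop := ∀ u ∈ UI D F, ρ u v = v

/-- an eigenvector of the torus -/
def EigH (g : Good D A) (ρ : Representation k ↥(D.group F) W) (v : W) : Prop :=
  ∀ c, ∃ a : k, ρ (T g c) v = a • v

theorem rep_mul (ρ : Representation k ↥(D.group F) W) (x y : ↥(D.group F)) (v : W) :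
    ρ (x * y) v = ρ x (ρ y v) := by rw [map_mul]; rfl

theorem rep_congr (ρ : Representation k ↥(D.group F) W) {v : W} (hv : FixU ρ v) {x y : ↥(D.group F)}
    (e : (x : ↥(D.group F) ⧸ UI D F) = y) : ρ x v = ρ y v := by
  rw [show y = x * (x⁻¹ * y) by group, rep_mul, hv _ (QuotientGroup.eq.1 e)]

theorem out_rep (ρ : Representation k ↥(D.group F) W) {v : W} (hv : FixU ρ v) (x : ↥(D.group F)) :
    ρ (x : ↥(D.group F) ⧸ UI D F).out v = ρ x v :=
  rep_congr ρ hv (QuotientGroup.out_eq' _)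

/-- the cell of `n` modulo `U` -/
def cellU (n : ↥(D.group F)) : Set (↥(D.group F) ⧸ UI D F) :=
  {x | ∃ a ∈ UI D F, ((a * n : ↥(D.group F)) : ↥(D.group F) ⧸ UI D F) = x}

/-- the Hecke operator of `n` -/
noncomputable def Tn (ρ : Representation k ↥(D.group F) W) (n : ↥(D.group F)) (v : W) : W :=
  ∑ᶠ x ∈ cellU n, ρ x.out v

theorem cellU_one : cellU (1 : ↥(D.group F)) = {((1 : ↥(D.group F)) : ↥(D.group F) ⧸ UI D F)} := by
  ext x
  constructor
  · rintro ⟨a, ha, rfl⟩
    rw [Set.mem_singleton_iff, QuotientGroup.eq]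
    simpa using inv_mem ha
  · rintro rfl
    exact ⟨1, one_mem _, by rw [one_mul]⟩

theorem Tn_one (ρ : Representation k ↥(D.group F) W) {v : W} (hv : FixU ρ v) : Tn ρ 1 v = v := by
  rw [Tn, cellU_one, finsum_mem_singleton, out_rep ρ hv, map_one]
  rfl

variable [Fintype F]

theorem finite_quot : Finite (↥(D.group F) ⧸ UI D F) := by
  haveI : Finite (GL D.Idx F) := finite_GL
  infer_instance

theorem map_Tn (ρ : Representation k ↥(D.group F) W) (f : W →ₗ[k] W) (n : ↥(D.group F)) (v : W) :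
    f (Tn ρ n v) = ∑ᶠ x ∈ cellU n, f (ρ x.out v) := by
  haveI := finite_quot (D := D) (F := F)
  exact AddMonoidHom.map_finsum_mem _ f.toAddMonoidHom (Set.toFinite _)

theorem Tn_fixU (ρ : Representation k ↥(D.group F) W) {v : W} (hv : FixU ρ v) (n : ↥(D.group F)) :
    FixU ρ (Tn ρ n v) := by
  intro u hu
  haveI := finite_quot (D := D) (F := F)
  rw [map_Tn ρ (ρ u), Tn]
  refine finsum_mem_eq_of_bijOn (fun x => u • x) ⟨?_, ?_, ?_⟩ fun x _ => ?_
  · rintro _ ⟨a, ha, rfl⟩
    exact ⟨u * a, mul_mem hu ha, by rw [mul_assoc]; rfl⟩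
  · exact (MulAction.injective u).injOn
  · rintro _ ⟨a, ha, rfl⟩
    refine ⟨((u⁻¹ * a * n : ↥(D.group F)) : ↥(D.group F) ⧸ UI D F),
      ⟨u⁻¹ * a, mul_mem (inv_mem hu) ha, rfl⟩, ?_⟩
    show ((u * (u⁻¹ * a * n) : ↥(D.group F)) : ↥(D.group F) ⧸ UI D F) = _
    congr 1
    group
  · obtain ⟨y, rfl⟩ := QuotientGroup.mk_surjective x
    show ρ u (ρ _ v) = ρ _ v
    rw [MulAction.Quotient.smul_mk, smul_eq_mul, out_rep ρ hv, out_rep ρ hv, ← rep_mul]

theorem tor_conj_UI (g : Good D A) (c : Fin D.rank → Fˣ) {u : ↥(D.group F)} (hu : u ∈ UI D F) :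
    T g c * u * (T g c)⁻¹ ∈ UI D F := by
  have := tor_conj_posUnipotent g c (show (u : GL D.Idx F) ∈ D.posUnipotent F from hu)
  simpa [Subgroup.mem_subgroupOf] using this

theorem Tn_eigH (h : Std D A) (ρ : Representation k ↥(D.group F) W) {v : W} (hv : FixU ρ v)
    (he : EigH h.good ρ v) {n : ↥(D.group F)} (hn : (n : GL D.Idx F) ∈ D.monomialSubgroup F) :
    EigH h.good ρ (Tn ρ n v) := by
  have g := h.good
  haveI := finite_quot (D := D) (F := F)
  intro c
  obtain ⟨d, hd⟩ := monomial_conj_tor g (inv_mem hn) c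
  rw [inv_inv] at hd
  have hd' : n⁻¹ * T g c * n = T g d := Subtype.ext (by push_cast [coe_T]; exact hd)
  obtain ⟨a, ha⟩ := he d
  refine ⟨a, ?_⟩
  rw [map_Tn ρ (ρ (T g c)), show a • Tn ρ n v = (a • LinearMap.id (R := k) (M := W)) (Tn ρ n v) from rfl,
    map_Tn ρ (a • LinearMap.id)]
  have hwd : ∀ y y' : ↥(D.group F), QuotientGroup.leftRel (UI D F) y y' →
      ((T g c * y * (T g d)⁻¹ : ↥(D.group F)) : ↥(D.group F) ⧸ UI D F) =
        ((T g c * y' * (T g d)⁻¹ : ↥(D.group F)) : ↥(D.group F) ⧸ UI D F) := by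
    intro y y' e
    rw [QuotientGroup.eq]
    have := tor_conj_UI g d (QuotientGroup.leftRel_apply.1 e)
    convert this using 1
    group
  refine finsum_mem_eq_of_bijOn (Quotient.lift _ hwd) ⟨?_, ?_, ?_⟩ fun x hx => ?_
  · rintro _ ⟨b, hb, rfl⟩
    refine ⟨T g c * b * (T g c)⁻¹, tor_conj_UI g c hb, ?_⟩
    show _ = ((_ : ↥(D.group F)) : ↥(D.group F) ⧸ UI D F)
    congr 1
    rw [← hd']
    group
  · intro x _ x' _ e
    obtain ⟨y, rfl⟩ := QuotientGroup.mk_surjective x
    obtain ⟨y', rfl⟩ := QuotientGroup.mk_surjective x'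
    have e' := QuotientGroup.eq.1 (show ((T g c * y * (T g d)⁻¹ : ↥(D.group F)) :
      ↥(D.group F) ⧸ UI D F) = _ from e)
    rw [QuotientGroup.eq]
    have := tor_conj_UI g d⁻¹ e'
    rw [map_inv] at this
    convert this using 1
    group
  · rintro _ ⟨b, hb, rfl⟩
    refine ⟨(((T g c)⁻¹ * b * T g c * n : ↥(D.group F)) : ↥(D.group F) ⧸ UI D F),
      ⟨(T g c)⁻¹ * b * T g c, ?_, rfl⟩, ?_⟩
    · have := tor_conj_UI g c⁻¹ hb
      rwa [map_inv, inv_inv] at this
    · show ((_ : ↥(D.group F)) : ↥(D.group F) ⧸ UI D F) = _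
      congr 1
      rw [← hd']
      group
  · obtain ⟨y, rfl⟩ := QuotientGroup.mk_surjective x
    show ρ (T g c) (ρ _ v) = a • ρ ((T g c * y * (T g d)⁻¹ : ↥(D.group F)) : ↥(D.group F) ⧸ UI D F).out v
    rw [out_rep ρ hv, out_rep ρ hv, ← rep_mul, ← map_smul, ← ha, ← rep_mul, inv_mul_cancel_right]

/-- the Hecke operator of a fundamental reflection -/
noncomputable def Tj (g : Good D A) (ρ : Representation k ↥(D.group F) W) (i : ℕ) (v : W) : W :=
  ∑ s : F, ρ (X g (D.simple i) s * N g i) v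

theorem inCell_up (h : Std D A) {i : ℕ} (hi : i < D.rank) {n : GL D.Idx F}
    (hn : n ∈ D.monomialSubgroup F) {σ : ℕ → ℕ} (hσ : Acts h.good n σ) {q : ℕ}
    (hq : D.IsPosRoot q) (hσq : σ q = D.simple i) {b : GL D.Idx F} (hb : b ∈ D.borelSubgroup F) :
    InCell D (nS F h.good i * n) (nS F h.good i * b * n) := by
  have g := h.good
  obtain ⟨u, hu, c, rfl⟩ := (mem_borel_iff h.good).1 hb
  obtain ⟨v, hv, a, rfl⟩ := pos_decomp h hi hu
  obtain ⟨a', ha'⟩ := hσ.push hq.1 a
  rw [hσq] at ha'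
  obtain ⟨d, hd⟩ := monomial_conj_tor h.good (inv_mem hn) c
  rw [inv_inv] at hd
  refine ⟨nS F h.good i * v * (nS F h.good i)⁻¹,
    pos_le_borel (UP_posBut_le h.good i (nS_conj_posBut h hi hv)),
    xG h.good q a' * tor D A d, mul_mem (xG_mem_borel h.good hq a') (tor_mem_borel h.good d), ?_⟩
  rw [← hd, show nS F h.good i * (v * xG h.good (D.simple i) a * tor D A c) * n =
    nS F h.good i * v * (nS F h.good i)⁻¹ * nS F h.good i * (xG h.good (D.simple i) a * n) *
      (n⁻¹ * tor D A c * n) by group, ha']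
  group

/-- the Hecke operators multiply when lengths add -/
theorem Tn_up (h : Std D A) (ρ : Representation k ↥(D.group F) W) {v : W} (hv : FixU ρ v)
    {i : ℕ} (hi : i < D.rank) {n : ↥(D.group F)} (hn : (n : GL D.Idx F) ∈ D.monomialSubgroup F)
    {σ : ℕ → ℕ} (hσ : Acts h.good (n : GL D.Idx F) σ) {q : ℕ} (hq : D.IsPosRoot q)
    (hσq : σ q = D.simple i) :
    Tn ρ (N h.good i * n) v = Tj h.good ρ i (Tn ρ n v) := by
  classical
  have g := h.good
  haveI := finite_quot (D := D) (F := F)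
  set p := D.simple i
  have hin : (Set.toFinite (cellU n)).toFinset = (Set.toFinite (cellU n)).toFinset := rfl
  rw [Tn, finsum_mem_eq_finite_toFinset_sum _ (Set.toFinite _), Tj]
  simp only [Tn, finsum_mem_eq_finite_toFinset_sum _ (Set.toFinite (cellU n)), map_sum]
  rw [← Finset.sum_product']
  symm
  refine Finset.sum_bij (fun z _ => (X g p z.1 * N g i : ↥(D.group F)) • z.2) ?_ ?_ ?_ ?_
  · rintro ⟨s, x⟩ hz
    simp only [Finset.mem_product, Set.Finite.mem_toFinset] at hz
    obtain ⟨-, a, ha, rfl⟩ := hz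
    obtain ⟨w, hw, b, hb⟩ := pos_decomp h hi (show (a : GL D.Idx F) ∈ D.posUnipotent F from ha)
    obtain ⟨b', hb'⟩ := hσ.push hq.1 b
    rw [hσq] at hb'
    rw [Set.Finite.mem_toFinset]
    have hw' : nS F g i * w * (nS F g i)⁻¹ ∈ D.posUnipotent F :=
      UP_posBut_le g i (nS_conj_posBut h hi hw)
    refine ⟨X g p s * ⟨_, posUnipotent_le_group g hw'⟩,
      mul_mem (xG_mem_posUnipotent g (simple_pos g hi) s) hw', ?_⟩
    show _ = ((X g p s * N g i * (a * n) : ↥(D.group F)) : ↥(D.group F) ⧸ UI D F)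
    rw [QuotientGroup.eq, Subgroup.mem_subgroupOf]
    have e : ((X g p s * ⟨_, posUnipotent_le_group g hw'⟩ * (N g i * n))⁻¹ *
        (X g p s * N g i * (a * n)) : ↥(D.group F)) = (⟨xG g q b', xG_mem_group g q b'⟩ : ↥(D.group F)) := by
      apply Subtype.ext
      push_cast [coe_X, coe_N]
      rw [hb]
      have : xG g p b * (n : GL D.Idx F) = n * xG g q b' := hb'
      rw [show xG g p s * (nS F g i * w * (nS F g i)⁻¹) * (nS F g i * (n : GL D.Idx F)) =
        xG g p s * (nS F g i * w * (n : GL D.Idx F)) by group,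
        show (w * xG g p b) * (n : GL D.Idx F) = w * (xG g p b * n) by group, this]
      group
    rw [e]
    exact xG_mem_posUnipotent g hq b'
  · rintro ⟨s, x⟩ hz ⟨s', x'⟩ hz' e
    simp only [Finset.mem_product, Set.Finite.mem_toFinset] at hz hz'
    obtain ⟨-, a, ha, rfl⟩ := hz
    obtain ⟨-, a', ha', rfl⟩ := hz'
    have e' := QuotientGroup.eq.1 (show ((X g p s * N g i * (a * n) : ↥(D.group F)) :
      ↥(D.group F) ⧸ UI D F) = ((X g p s' * N g i * (a' * n) : ↥(D.group F)) :
      ↥(D.group F) ⧸ UI D F) from e)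
    by_cases hs : s = s'
    · subst hs
      refine Prod.ext rfl ((MulAction.injective (X g p s * N g i)) ?_)
      exact e
    exfalso
    rw [Subgroup.mem_subgroupOf] at e'
    push_cast [coe_X, coe_N] at e'
    obtain ⟨τ, hτ, hτσ⟩ := acts_inv g hn hσ
    set e₀ : F := (A.eta i (A.neg p) : F)⁻¹ * (s' - s) with he₀
    have hη : (A.eta i (A.neg p) : F) ≠ 0 := eta_ne_zero g hi (g.neg_lt _ (g.simple_lt i hi))
    have he0 : e₀ ≠ 0 := mul_ne_zero (inv_ne_zero hη) (sub_ne_zero.2 (Ne.symm hs))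
    have hy : xG g (A.neg p) e₀ = (nS F g i)⁻¹ * xG g p (s' - s) * nS F g i := by
      rw [show s' - s = (A.eta i (A.neg p) : F) * e₀ by rw [he₀, mul_inv_cancel_left₀ hη],
        mul_assoc, ← n_mul_y g hi, inv_mul_cancel_left]
    have hcell1 : InCell D (n : GL D.Idx F) (xG g (A.neg p) e₀ * (a' : GL D.Idx F) * (n : GL D.Idx F)) := by
      refine ⟨a, pos_le_borel ha, _, pos_le_borel e', ?_⟩
      rw [hy, show xG g p (s' - s) = (xG g p s)⁻¹ * xG g p s' by
        rw [xG_inv, xG_add]; congr 1; ring]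
      group
    set t : Fˣ := (Units.mk0 e₀ he0)⁻¹ with ht
    have hcell2 : InCell D (nS F g i * (n : GL D.Idx F)) (xG g (A.neg p) e₀ * (a' : GL D.Idx F) * (n : GL D.Idx F)) := by
      rw [show e₀ = ((t⁻¹ : Fˣ) : F) by rw [ht, inv_inv, Units.val_mk0], y_eq g hi t]
      have hb : xG g p ((t⁻¹ : Fˣ) : F) * (hS D A hi (-t))⁻¹ * a' ∈ D.borelSubgroup F :=
        mul_mem (mul_mem (xG_mem_borel g (simple_pos g hi) _) (inv_mem (tor_mem_borel g _)))
          (pos_le_borel ha')
      have h2 := (inCell_up h hi hn hσ hq hσq hb).left (xG_mem_borel g (simple_pos g hi) (t : F))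
      convert h2 using 1
      simp only [p]
      group
    have hd := inCell_unique h hn (mul_mem (nS_mem_monomial g hi) hn) hcell1 hcell2
    have h3 := (hσ.mul (acts_diag g hd))
    rw [Function.comp_id] at h3
    have h4 : Acts g (nS F g i * (n : GL D.Idx F)) σ ∨ Acts g (n : GL D.Idx F) (A.refl i ∘ σ) := by
      first
        | exact Or.inl (by rwa [mul_inv_cancel_left] at h3)
        | exact Or.inr (by
            have h5 := ((acts_nS g hi).mul hσ).mul (acts_diag g hd)
            rwa [Function.comp_id, mul_inv_cancel_left] at h5)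
    have h6 : A.refl i (D.simple i) = D.simple i := by
      rcases h4 with h4 | h4
      · have := ((acts_nS g hi).mul hσ).unique h4 hq.1
        rwa [Function.comp_apply, hσq] at this
      · have := h4.unique hσ hq.1
        rwa [Function.comp_apply, hσq] at this
    rw [refl_simple g hi] at h6
    exact not_pos_neg g (simple_pos g hi) (h6.symm ▸ simple_pos g hi)
  · intro z hz
    rw [Set.Finite.mem_toFinset] at hz
    obtain ⟨a, ha, rfl⟩ := hz
    obtain ⟨w, hw, b, hb⟩ := pos_decomp h hi (show (a : GL D.Idx F) ∈ D.posUnipotent F from ha)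
    set w' := (nS F g i)⁻¹ * (xG g p b)⁻¹ * w * xG g p b * nS F g i with hw'
    have hwU : w' ∈ D.posUnipotent F := by
      have h1 : (xG g p b)⁻¹ * w * xG g p b ∈ UP F g (posBut D i) := by
        have := (Subgroup.mem_normalizer_iff''.1 (rankOne_le_normalizer h hi
          ((le_sup_left : _ ≤ rankOne F D i) (xG_mem_rootSubgroup g p b))) w).1 hw
        simpa [mul_assoc] using this
      have h2 := (Subgroup.mem_normalizer_iff''.1 (rankOne_le_normalizer h hi
        (nS_mem_rankOne g i)) _).1 h1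
      refine UP_posBut_le g i ?_
      simpa [hw', mul_assoc] using h2
    refine ⟨(b, ((⟨w', posUnipotent_le_group g hwU⟩ * n : ↥(D.group F)) : ↥(D.group F) ⧸ UI D F)), ?_, ?_⟩
    · simp only [Finset.mem_product, Finset.mem_univ, Set.Finite.mem_toFinset, true_and]
      exact ⟨⟨w', posUnipotent_le_group g hwU⟩, hwU, rfl⟩
    · show ((X g p b * N g i * (_ * n) : ↥(D.group F)) : ↥(D.group F) ⧸ UI D F) = _
      congr 1
      apply Subtype.ext
      push_cast [coe_X, coe_N]
      simp only [hw', hb, p]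
      group
  · rintro ⟨s, x⟩ _
    obtain ⟨y, rfl⟩ := QuotientGroup.mk_surjective x
    show ρ (X g p s * N g i) (ρ _ v) = ρ _ v
    rw [MulAction.Quotient.smul_mk, smul_eq_mul, out_rep ρ hv, out_rep ρ hv, ← rep_mul]

theorem Tj_eq_Tn (h : Std D A) (ρ : Representation k ↥(D.group F) W) {v : W} (hv : FixU ρ v)
    {i : ℕ} (hi : i < D.rank) : Tj h.good ρ i v = Tn ρ (N h.good i) v := by
  have hσ : Acts h.good ((1 : ↥(D.group F)) : GL D.Idx F) id := by
    simpa using acts_tor (F := F) h.good 1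
  have := Tn_up h ρ hv hi (n := 1) (one_mem _) hσ (simple_pos h.good hi) rfl
  rw [mul_one, Tn_one ρ hv] at this
  exact this.symm

theorem Tj_fixU (h : Std D A) (ρ : Representation k ↥(D.group F) W) {v : W} (hv : FixU ρ v)
    {i : ℕ} (hi : i < D.rank) : FixU ρ (Tj h.good ρ i v) := by
  rw [Tj_eq_Tn h ρ hv hi]; exact Tn_fixU ρ hv _

theorem Tj_eigH (h : Std D A) (ρ : Representation k ↥(D.group F) W) {v : W} (hv : FixU ρ v)
    (he : EigH h.good ρ v) {i : ℕ} (hi : i < D.rank) : EigH h.good ρ (Tj h.good ρ i v) := by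
  rw [Tj_eq_Tn h ρ hv hi]; exact Tn_eigH h ρ hv he (nS_mem_monomial h.good hi)

/-- moving a fundamental root element past the monomial element -/
theorem rep_xN (h : Std D A) (ρ : Representation k ↥(D.group F) W) {v : W} (hv : FixU ρ v)
    {i : ℕ} (hi : i < D.rank) (s : Fˣ) {a : k}
    (ha : ρ (T h.good (Pi.mulSingle ⟨i, hi⟩ (-s))) v = a • v) :
    ρ (X h.good (D.simple i) (s : F) * N h.good i) v =
      a • ρ (X h.good (A.neg (D.simple i)) ((s⁻¹ : Fˣ) : F)) v := by
  have g := h.good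
  have e : X g (D.simple i) (s : F) * N g i = X g (A.neg (D.simple i)) ((s⁻¹ : Fˣ) : F) *
      T g (Pi.mulSingle ⟨i, hi⟩ (-s)) * X g (D.simple i) (-((s⁻¹ : Fˣ) : F)) :=
    Subtype.ext (x_mul_n g hi s)
  rw [e, rep_mul, hv _ (show X g (D.simple i) _ ∈ UI D F from
    xG_mem_posUnipotent g (simple_pos g hi) _), rep_mul, ha, map_smul]

variable [CharP k (ringChar F)]

variable (k) in
theorem sum_field_zero (w : W) [Module k W] : ∑ _s : F, w = 0 := by
  obtain ⟨p, hp⟩ := CharP.exists F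
  haveI := hp
  rw [Finset.sum_const, Finset.card_univ, ← Nat.cast_smul_eq_nsmul k]
  obtain ⟨n, hpr, hq⟩ := FiniteField.card F p
  have : ringChar F = p := ringChar.eq F p
  rw [hq, Nat.cast_pow, ← this, CharP.cast_eq_zero, zero_pow n.pos.ne', zero_smul]

open Classical in
/-- the quadratic relation -/
theorem Tj_Tj (h : Std D A) (ρ : Representation k ↥(D.group F) W) {v : W} (hv : FixU ρ v)
    (he : EigH h.good ρ v) {i : ℕ} (hi : i < D.rank) {lam : Fˣ → k}
    (hlam : ∀ s : Fˣ, ρ (T h.good (Pi.mulSingle ⟨i, hi⟩ (-s))) v = lam s • v) :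
    Tj h.good ρ i (Tj h.good ρ i v) = (∑ s : Fˣ, lam s) • Tj h.good ρ i v := by
  classical
  have g := h.good
  set p := D.simple i
  have hstep : ∀ s' : F, ∑ s : F, ρ (X g p s * N g i) (ρ (X g p s' * N g i) v) =
      if hs : s' = 0 then 0 else lam (Units.mk0 s' hs) • Tj g ρ i v := by
    intro s'
    split_ifs with hs
    · subst hs
      obtain ⟨e, hesq⟩ := nS_sq_mem (F := F) g hi
      obtain ⟨a, ha⟩ := he e
      have : ∀ s : F, ρ (X g p s * N g i) (ρ (X g p 0 * N g i) v) = a • v := by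
        intro s
        rw [← rep_mul, show X g p s * N g i * (X g p 0 * N g i) = X g p s * T g e from Subtype.ext (by
          push_cast [coe_X, coe_N, coe_T]; rw [xG_zero, one_mul, hesq, mul_assoc]), rep_mul, ha,
          map_smul, hv _ (show X g p s ∈ UI D F from xG_mem_posUnipotent g (simple_pos g hi) _)]
      rw [Finset.sum_congr rfl fun s _ => this s, sum_field_zero k]
    · set u := Units.mk0 s' hs
      have h1 := rep_xN h ρ hv hi u (hlam u)
      rw [Units.val_mk0] at h1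
      set c : F := (A.eta i (A.neg p) : F) * ((u⁻¹ : Fˣ) : F)
      have hc : ∀ s : F, X g p s * N g i * X g (A.neg p) ((u⁻¹ : Fˣ) : F) = X g p (s + c) * N g i :=
        fun s => Subtype.ext (by
          push_cast [coe_X, coe_N]
          rw [mul_assoc, n_mul_y g hi, ← mul_assoc, xG_add]
          simp [c, p])
      rw [Finset.sum_congr rfl fun s _ =>
        show ρ (X g p s * N g i) (ρ (X g p s' * N g i) v) = lam u • ρ (X g p (s + c) * N g i) v by
          rw [show ρ (X g p s' * N g i) v = lam u • ρ (X g (A.neg p) ((u⁻¹ : Fˣ) : F)) v from h1,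
            map_smul, ← rep_mul, hc], ← Finset.smul_sum]
      congr 1
      exact Fintype.sum_equiv (Equiv.addRight c) _ _ fun s => rfl
  calc Tj g ρ i (Tj g ρ i v) = ∑ s' : F, ∑ s : F, ρ (X g p s * N g i) (ρ (X g p s' * N g i) v) := by
        rw [Finset.sum_comm, Tj]
        exact Finset.sum_congr rfl fun s _ => by rw [Tj, map_sum]
    _ = ∑ s' : F, if hs : s' = 0 then 0 else lam (Units.mk0 s' hs) • Tj g ρ i v :=
        Finset.sum_congr rfl fun s' _ => hstep s'
    _ = _ := by
        rw [Finset.sum_smul, Finset.sum_dite, Finset.sum_const_zero, zero_add]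
        refine Finset.sum_bij' (fun s _ => Units.mk0 s.1 (Finset.mem_filter.1 s.2).2)
          (fun u _ => ⟨(u : F), Finset.mem_filter.2 ⟨Finset.mem_univ _, u.ne_zero⟩⟩)
          (fun _ _ => Finset.mem_univ _) (fun _ _ => Finset.mem_attach _ _)
          (fun _ _ => Subtype.ext rfl) (fun _ _ => Units.ext rfl) fun _ _ => rfl

/-- a weight vector -/
structure IsWt (g : Good D A) (ρ : Representation k ↥(D.group F) W) (v : W) : Prop where
  ne : v ≠ 0
  fix : FixU ρ v
  eig : EigH g ρ v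
  hecke : ∀ i < D.rank, ∃ c : k, Tj g ρ i v = c • v

/-- weight vectors exist in the span of the Hecke translates of an eigenvector -/
theorem exists_isWt_of_eig (h : Std D A) (ρ : Representation k ↥(D.group F) W) {v : W}
    (hne : v ≠ 0) (hv : FixU ρ v) (he : EigH h.good ρ v) :
    ∃ n : ↥(D.group F), (n : GL D.Idx F) ∈ D.monomialSubgroup F ∧ IsWt h.good ρ (Tn ρ n v) := by
  classical
  have g := h.good
  let P : ℕ → Prop := fun m => ∃ n : ↥(D.group F), (n : GL D.Idx F) ∈ D.monomialSubgroup F ∧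
    Tn ρ n v ≠ 0 ∧ ∃ τ, Acts g (n : GL D.Idx F)⁻¹ τ ∧ posToPos D τ = m
  have hP : ∃ m, P m := by
    obtain ⟨τ, hτ⟩ := exists_acts g (inv_mem (one_mem (D.monomialSubgroup F)))
    exact ⟨_, 1, one_mem _, by rw [Tn_one ρ hv]; exact hne, τ, hτ, rfl⟩
  obtain ⟨n, hn, hn0, τ, hτ, hm⟩ := Nat.find_spec hP
  refine ⟨n, hn, hn0, Tn_fixU ρ hv n, Tn_eigH h ρ hv he hn, fun i hi => ?_⟩
  obtain ⟨σ, hσ⟩ := exists_acts g hn
  obtain ⟨τ', hτ', hτσ'⟩ := acts_inv g hn hσ
  have hsi := g.simple_lt i hi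
  set q := τ (D.simple i) with hq
  have hqlt : q < D.nroots := hτ.map.1 _ hsi
  have hσq : σ q = D.simple i := by rw [hq, hτ.unique hτ' hsi, (hτσ' _ hsi).2]
  rcases pos_or_pos_neg g hqlt with hpos | hneg
  · refine ⟨0, ?_⟩
    rw [zero_smul, ← Tn_up h ρ hv hi hn hσ hpos hσq]
    by_contra hne'
    obtain ⟨ν, hν, -⟩ := acts_inv g (nS_mem_monomial (F := F) g hi) (acts_nS g hi)
    have hν' : ∀ r < D.nroots, ν r = A.refl i r := fun r hr => by
      obtain ⟨ν', hν'', h2⟩ := acts_inv g (nS_mem_monomial (F := F) g hi) (acts_nS g hi)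
      rw [hν.unique hν'' hr]
      have h3 := (h2 _ (g.refl_lt i hi r hr)).1
      rwa [g.refl_refl i hi r hr] at h3
    have hact : Acts g ((N g i * n : ↥(D.group F)) : GL D.Idx F)⁻¹ (τ ∘ ν) := by
      push_cast [coe_N]
      rw [_root_.mul_inv_rev]
      exact hτ.mul hν
    have h4 : posToPos D (τ ∘ ν) = posToPos D (τ ∘ A.refl i) :=
      posToPos_congr fun r hr => by rw [Function.comp_apply, Function.comp_apply, hν' r hr]
    have h5 := posToPos_refl g hτ.map hi hpos
    exact Nat.find_min hP (m := posToPos D (τ ∘ ν)) (by omega)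
      ⟨_, mul_mem (nS_mem_monomial g hi) hn, hne', _, hact, rfl⟩
  · have hn' : (((N g i)⁻¹ * n : ↥(D.group F)) : GL D.Idx F) ∈ D.monomialSubgroup F :=
      mul_mem (inv_mem (nS_mem_monomial g hi)) hn
    obtain ⟨σ', hσ'⟩ := exists_acts g hn'
    have hcomp : Acts g (n : GL D.Idx F) (A.refl i ∘ σ') := by
      have := (acts_nS (F := F) g hi).mul hσ'
      push_cast [coe_N] at this
      rwa [mul_inv_cancel_left] at this
    have hq' : σ' (A.neg q) = D.simple i := by
      have h1 := hcomp.unique hσ (g.neg_lt q hqlt)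
      rw [Function.comp_apply, hσ.map.map_neg g hqlt, hσq] at h1
      have h2 := congrArg (A.refl i) h1
      rwa [g.refl_refl i hi _ (hσ'.map.1 _ (g.neg_lt q hqlt)), refl_neg_simple g hi] at h2
    have hup := Tn_up h ρ hv hi hn' hσ' hneg hq'
    rw [mul_inv_cancel_left] at hup
    choose lam hlam using fun s : Fˣ =>
      Tn_eigH h ρ hv he hn' (Pi.mulSingle ⟨i, hi⟩ (-s))
    exact ⟨_, by rw [hup]; exact Tj_Tj h ρ (Tn_fixU ρ hv _) (Tn_eigH h ρ hv he hn') hi hlam⟩

end CfsgLib.Chev.Weights
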