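import Cfsg.Agent.Lib.Chev.Weights.Basic
import Cfsg.Agent.Lib.Blocks.NormalPSubgroup

/-!
Curtis–Richen: a simple module in the defining characteristic has exactly one weight, and is determined by it.
-/

set_option autoImplicit false

namespace CfsgLib.Chev.Weights

open Cfsg.Lie CfsgLib.Modular

variable {D : ChevalleyDatum} {A : Aux} {F : Type*} [Field F]
variable {k W : Type*} [Field k] [AddCommGroup W] [Module k W]

/-- the negative unipotent orbit of a vector spans -/
def negSpan (ρ : Representation k ↥(D.group F) W) (v : W) : Submodule k W :=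
  Submodule.span k {w | ∃ u ∈ VI D F, ρ u v = w}

theorem mem_negSpan (ρ : Representation k ↥(D.group F) W) (v : W) : v ∈ negSpan ρ v :=
  Submodule.subset_span ⟨1, one_mem _, by rw [map_one]; rfl⟩

theorem tor_conj_VI (g : Good D A) (c : Fin D.rank → Fˣ) {u : ↥(D.group F)} (hu : u ∈ VI D F) :
    T g c * u * (T g c)⁻¹ ∈ VI D F := by
  have := tor_conj_negUnipotent g c (show (u : GL D.Idx F) ∈ D.negUnipotent F from hu)
  simpa [Subgroup.mem_subgroupOf] using this

variable [Fintype F]

theorem isPGroup_VI (h : Std D A) : IsPGroup (ringChar F) ↥(VI D F) := by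
  have g := h.good
  obtain ⟨p, hp⟩ := CharP.exists F
  haveI := hp
  obtain ⟨n, hpr, hq⟩ := FiniteField.card F p
  haveI : Fact p.Prime := ⟨hpr⟩
  rw [ringChar.eq F p]
  obtain ⟨m, hm, σ, hσ, hw⟩ := exists_longest (F := F) g
  have hle : D.negUnipotent F ≤ D.group F := by
    rw [negUnipotent_eq g]
    refine (Subgroup.closure_le _).2 ?_
    rintro y ⟨r, t, -, rfl⟩
    exact xG_mem_group g r t
  refine IsPGroup.of_card (n := n * (D.nroots / 2)) ?_
  rw [Nat.card_congr (Subgroup.subgroupOfEquivOfLe hle).toEquiv, ← longest_conj g hσ hw,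
    ← Nat.card_congr ((D.posUnipotent F).equivMapOfInjective _ (MulEquiv.injective _)).toEquiv,
    card_posUnipotent h, hq, ← pow_mul]

theorem isPGroup_UI (h : Std D A) : IsPGroup (ringChar F) ↥(UI D F) := by
  obtain ⟨p, hp⟩ := CharP.exists F
  haveI := hp
  obtain ⟨n, hpr, hq⟩ := FiniteField.card F p
  haveI : Fact p.Prime := ⟨hpr⟩
  rw [ringChar.eq F p]
  refine IsPGroup.of_card (n := n * (D.nroots / 2)) ?_
  rw [Nat.card_congr (Subgroup.subgroupOfEquivOfLe (posUnipotent_le_group h.good)).toEquiv,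
    card_posUnipotent h, hq, ← pow_mul]

omit [Fintype F] in
theorem negSpan_mem (ρ : Representation k ↥(D.group F) W) {v : W} {u : ↥(D.group F)} (hu : u ∈ VI D F)
    {w : W} (hw : w ∈ negSpan ρ v) : ρ u w ∈ negSpan ρ v := by
  induction hw using Submodule.span_induction with
  | mem x hx =>
    obtain ⟨u', hu', rfl⟩ := hx
    exact Submodule.subset_span ⟨u * u', mul_mem hu hu', rep_mul ρ u u' v⟩
  | zero => rw [map_zero]; exact zero_mem _
  | add x y _ _ hx hy => rw [map_add]; exact add_mem hx hy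
  | smul a x _ hx => rw [map_smul]; exact Submodule.smul_mem _ a hx

/-- **the negative unipotent orbit of a weight vector spans a submodule** -/
theorem negSpan_invar (h : Std D A) (ρ : Representation k ↥(D.group F) W) {v : W}
    (hv : IsWt h.good ρ v) : IsInvar ρ (negSpan ρ v) := by
  classical
  have g := h.good
  haveI : Finite (GL D.Idx F) := finite_GL
  let S : Subgroup ↥(D.group F) :=
    { carrier := {x | ∀ w ∈ negSpan ρ v, ρ x w ∈ negSpan ρ v}
      mul_mem' := fun {a b} ha hb w hw => by rw [rep_mul]; exact ha _ (hb _ hw)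
      one_mem' := fun w hw => by rw [map_one]; exact hw
      inv_mem' := fun {a} ha => by
        intro w hw
        rw [show a⁻¹ = a ^ (orderOf a - 1) from inv_eq_of_mul_eq_one_right (by
          rw [← pow_succ', Nat.sub_add_cancel (orderOf_pos a), pow_orderOf_eq_one])]
        induction orderOf a - 1 generalizing w with
        | zero => rw [pow_zero, map_one]; exact hw
        | succ n ih => rw [pow_succ, rep_mul]; exact ih _ (ha _ hw) }
  have hgen : ∀ x, (∀ u ∈ VI D F, ρ x (ρ u v) ∈ negSpan ρ v) → x ∈ S := by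
    intro x hx w hw
    induction hw using Submodule.span_induction with
    | mem z hz => obtain ⟨u, hu, rfl⟩ := hz; exact hx u hu
    | zero => rw [map_zero]; exact zero_mem _
    | add z y _ _ hz hy => rw [map_add]; exact add_mem hz hy
    | smul a z _ hz => rw [map_smul]; exact Submodule.smul_mem _ a hz
  suffices hle : D.group F ≤ S.map (D.group F).subtype by
    intro x w hw
    obtain ⟨y, hy, e⟩ := hle x.2
    obtain rfl : y = x := Subtype.ext e
    exact hy w hw
  refine group_le_of_gen g (fun y hy => ?_) fun i hi => ⟨N g i, hgen _ fun u hu => ?_, rfl⟩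
  · have hyG : y ∈ D.group F := by
      rw [negUnipotent_eq g] at hy
      refine (Subgroup.closure_le _).2 ?_ hy
      rintro z ⟨r, t, -, rfl⟩
      exact xG_mem_group g r t
    exact ⟨⟨y, hyG⟩, fun w hw => negSpan_mem ρ hy hw, rfl⟩
  obtain ⟨v', hv', a, ha⟩ := neg_decomp h hi (show (u : GL D.Idx F) ∈ D.negUnipotent F from hu)
  have hv2 := UP_negBut_le g i (nS_conj_negBut h hi hv')
  have hv2G : nS F g i * v' * (nS F g i)⁻¹ ∈ D.group F := by
    rw [negUnipotent_eq g] at hv2
    refine (Subgroup.closure_le _).2 ?_ hv2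
    rintro z ⟨r, t, -, rfl⟩
    exact xG_mem_group g r t
  set e : F := (A.eta i (A.neg (D.simple i)) : F) * a with he
  have hNu : N g i * u = ⟨_, hv2G⟩ * (X g (D.simple i) e * N g i) := Subtype.ext (by
    push_cast [coe_X, coe_N]
    rw [ha, he, ← n_mul_y g hi]
    group)
  rw [← rep_mul, hNu, rep_mul]
  refine negSpan_mem ρ hv2 ?_
  have hne : ∀ s : F, s ≠ 0 → ρ (X g (D.simple i) s * N g i) v ∈ negSpan ρ v := by
    intro s hs
    obtain ⟨c, hc⟩ := hv.eig (Pi.mulSingle ⟨i, hi⟩ (-(Units.mk0 s hs)))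
    have h1 := rep_xN h ρ hv.fix hi (Units.mk0 s hs) hc
    rw [Units.val_mk0] at h1
    rw [h1]
    exact Submodule.smul_mem _ _ (Submodule.subset_span ⟨_, xG_mem_negUnipotent g (negSimple_isNeg g hi) _, rfl⟩)
  by_cases he0 : e = 0
  · obtain ⟨c, hc⟩ := hv.hecke i hi
    rw [Tj, ← Finset.add_sum_erase _ _ (Finset.mem_univ e)] at hc
    rw [eq_sub_of_add_eq hc]
    refine sub_mem (Submodule.smul_mem _ _ (mem_negSpan ρ v)) (sum_mem fun s hs => hne s ?_)
    exact he0 ▸ (Finset.ne_of_mem_erase hs)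
  · exact hne e he0

/-- commuting semisimple-or-not operators have a common eigenvector -/
theorem exists_common_eig [IsAlgClosed k] [FiniteDimensional k W] {ι : Type*} (f : ι → W →ₗ[k] W)
    (hcomm : ∀ i j w, f i (f j w) = f j (f i w)) :
    ∀ U : Submodule k W, U ≠ ⊥ → (∀ i, ∀ w ∈ U, f i w ∈ U) →
      ∃ w ∈ U, w ≠ 0 ∧ ∀ i, ∃ a : k, f i w = a • w := by
  suffices ∀ d (U : Submodule k W), Module.finrank k U = d → U ≠ ⊥ → (∀ i, ∀ w ∈ U, f i w ∈ U) →
      ∃ w ∈ U, w ≠ 0 ∧ ∀ i, ∃ a : k, f i w = a • w from fun U => this _ U rfl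
  intro d
  induction d using Nat.strong_induction_on with
  | _ d ih =>
    intro U hd hU hst
    by_cases hall : ∀ i, ∃ a : k, ∀ w ∈ U, f i w = a • w
    · obtain ⟨w, hw, hw0⟩ := U.exists_mem_ne_zero_of_ne_bot hU
      exact ⟨w, hw, hw0, fun i => ⟨_, (hall i).choose_spec w hw⟩⟩
    push Not at hall
    obtain ⟨i, hi⟩ := hall
    haveI : Nontrivial U := Submodule.nontrivial_iff_ne_bot.2 hU
    obtain ⟨a, ha⟩ := Module.End.exists_eigenvalue ((f i).restrict (hst i))
    obtain ⟨x, hx⟩ := ha.exists_hasEigenvector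
    set U' := U ⊓ LinearMap.ker (f i - a • LinearMap.id) with hU'
    have hxU : (x : W) ∈ U' := ⟨x.2, by
      have := congrArg Subtype.val hx.apply_eq_smul
      show (f i - a • LinearMap.id : W →ₗ[k] W) (x : W) = 0
      simp only [LinearMap.sub_apply, LinearMap.smul_apply, LinearMap.id_apply, sub_eq_zero]
      simpa using this⟩
    have hlt : U' < U := by
      refine lt_of_le_of_ne inf_le_left fun e => ?_
      obtain ⟨w, hw, hne⟩ := hi a
      have : w ∈ LinearMap.ker (f i - a • LinearMap.id) := (e.symm ▸ hw : w ∈ U').2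
      simp only [LinearMap.mem_ker, LinearMap.sub_apply, LinearMap.smul_apply, LinearMap.id_apply,
        sub_eq_zero] at this
      exact hne this
    obtain ⟨w, hw, hw'⟩ := ih _ (hd ▸ Submodule.finrank_lt_finrank_of_lt hlt) U' rfl
      (fun e => hx.2 (Subtype.ext ((Submodule.mem_bot k).1 (e ▸ hxU))))
      (fun j w hw => ⟨hst j w hw.1, by
        have h2 := hw.2
        simp only [SetLike.mem_coe, LinearMap.mem_ker, LinearMap.sub_apply, LinearMap.smul_apply,
          LinearMap.id_apply, sub_eq_zero] at h2 ⊢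
        rw [hcomm, h2, map_smul]⟩)
    exact ⟨w, hw.1, hw'⟩

variable [CharP k (ringChar F)]

/-- every nonzero module has a weight vector -/
theorem exists_isWt [IsAlgClosed k] [FiniteDimensional k W] [Nontrivial W] (h : Std D A)
    (ρ : Representation k ↥(D.group F) W) : ∃ v, IsWt h.good ρ v := by
  have g := h.good
  haveI : Finite (GL D.Idx F) := finite_GL
  haveI : Fact (ringChar F).Prime := ⟨CharP.char_is_prime F _⟩
  let U : Submodule k W :=
    { carrier := {w | FixU ρ w}
      add_mem' := fun {a b} ha hb u hu => by rw [map_add, ha u hu, hb u hu]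
      zero_mem' := fun u _ => map_zero _
      smul_mem' := fun c a ha u hu => by rw [map_smul, ha u hu] }
  obtain ⟨v, hv, hfix⟩ := Blocks.exists_fixed_ne_zero (k := k) (isPGroup_UI h) (ρ.comp (UI D F).subtype)
  have hU : U ≠ ⊥ := fun e => hv ((Submodule.mem_bot k).1
    (e ▸ (show v ∈ U from fun u hu => hfix ⟨u, hu⟩)))
  obtain ⟨w, hw, hw0, hwe⟩ := exists_common_eig (k := k) (fun c => ρ (T h.good c))
    (fun c d w => by rw [← rep_mul, ← map_mul, mul_comm, map_mul, rep_mul]) U hU
    (fun c w hw u hu => by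
      have h1 := tor_conj_UI h.good c⁻¹ hu
      rw [map_inv, inv_inv] at h1
      rw [← rep_mul, show u * T h.good c = T h.good c * ((T h.good c)⁻¹ * u * T h.good c) by group,
        rep_mul, hw _ h1])
  obtain ⟨n, -, hn⟩ := exists_isWt_of_eig h ρ hw0 hw hwe
  exact ⟨_, hn⟩

omit [CharP k (ringChar F)] in
/-- an invariant functional of the negative unipotent group vanishes if it kills a generator -/
theorem eq_zero_of_apply {ρ : Representation k ↥(D.group F) W} {v : W} (htop : negSpan ρ v = ⊤)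
    {f : W →ₗ[k] k} (hf : ∀ u ∈ VI D F, ∀ w, f (ρ u w) = f w) (h0 : f v = 0) : f = 0 := by
  refine LinearMap.ext fun w => ?_
  have hw : w ∈ negSpan ρ v := htop ▸ Submodule.mem_top
  induction hw using Submodule.span_induction with
  | mem x hx => obtain ⟨u, hu, rfl⟩ := hx; rw [hf u hu, h0]; rfl
  | zero => simp
  | add x y _ _ hx hy => rw [map_add, hx, hy]; simp
  | smul a x _ hx => rw [map_smul, hx]; simp

/-- invariant functionals exist -/
theorem exists_inv_functional [FiniteDimensional k W] [Nontrivial W] (h : Std D A)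
    (ρ : Representation k ↥(D.group F) W) :
    ∃ f : W →ₗ[k] k, f ≠ 0 ∧ ∀ u ∈ VI D F, ∀ w, f (ρ u w) = f w := by
  haveI : Finite (GL D.Idx F) := finite_GL
  haveI : Fact (ringChar F).Prime := ⟨CharP.char_is_prime F _⟩
  let τ : ↥(VI D F) →* Module.End k (Module.Dual k W) :=
    { toFun := fun u => (ρ ((u : ↥(D.group F)))⁻¹).dualMap
      map_one' := by ext φ w; simp
      map_mul' := fun a b => by ext φ w; simp }
  obtain ⟨f, hf, hfix⟩ := Blocks.exists_fixed_ne_zero (k := k) (isPGroup_VI h) τ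
  refine ⟨f, hf, fun u hu w => ?_⟩
  have := LinearMap.congr_fun (hfix ⟨u, hu⟩⁻¹) w
  simpa [τ] using this

/-- the weight of a vector -/
structure HasWt (g : Good D A) (ρ : Representation k ↥(D.group F) W) (v : W)
    (L : (Fin D.rank → Fˣ) → k) (c : Fin D.rank → k) : Prop where
  ne : v ≠ 0
  fix : FixU ρ v
  tor : ∀ t, ρ (T g t) v = L t • v
  hecke : ∀ i : Fin D.rank, Tj g ρ i v = c i • v

omit [CharP k (ringChar F)] in
theorem HasWt.isWt {g : Good D A} {ρ : Representation k ↥(D.group F) W} {v : W}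
    {L : (Fin D.rank → Fˣ) → k} {c : Fin D.rank → k} (h : HasWt g ρ v L c) : IsWt g ρ v :=
  ⟨h.ne, h.fix, fun t => ⟨_, h.tor t⟩, fun i hi => ⟨_, h.hecke ⟨i, hi⟩⟩⟩

omit [CharP k (ringChar F)] in
theorem exists_hasWt {g : Good D A} {ρ : Representation k ↥(D.group F) W} {v : W}
    (h : IsWt g ρ v) : ∃ L c, HasWt g ρ v L c := by
  choose L hL using h.eig
  choose c hc using fun i : Fin D.rank => h.hecke i i.isLt
  exact ⟨L, c, h.ne, h.fix, hL, hc⟩

/-- **a simple module has only one weight** -/
theorem weight_unique [FiniteDimensional k W] (h : Std D A) {ρ : Representation k ↥(D.group F) W}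
    (hρ : IsSimpleRep ρ) {v v' : W} {L L' : (Fin D.rank → Fˣ) → k} {c c' : Fin D.rank → k}
    (hv : HasWt h.good ρ v L c) (hv' : HasWt h.good ρ v' L' c') : L = L' ∧ c = c' := by
  classical
  have g := h.good
  haveI := hρ.nontrivial
  obtain ⟨f, hf0, hf⟩ := exists_inv_functional h ρ
  have top : ∀ {w : W}, IsWt h.good ρ w → negSpan ρ w = ⊤ := fun {w} hw =>
    (hρ.eq_bot_or_top _ (negSpan_invar h ρ hw)).resolve_left fun e =>
      hw.ne ((Submodule.mem_bot k).1 (e ▸ mem_negSpan ρ w))
  have hv0 : f v ≠ 0 := fun e => hf0 (eq_zero_of_apply (top hv.isWt) hf e)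
  have hv0' : f v' ≠ 0 := fun e => hf0 (eq_zero_of_apply (top hv'.isWt) hf e)
  have hprop : ∀ φ : W →ₗ[k] k, (∀ u ∈ VI D F, ∀ w, φ (ρ u w) = φ w) →
      ∀ w, φ w * f v = φ v * f w := by
    intro φ hφ w
    have := eq_zero_of_apply (top hv.isWt) (f := f v • φ - φ v • f)
      (fun u hu w => by simp [hφ u hu, hf u hu]) (by simp [mul_comm])
    have := LinearMap.congr_fun this w
    simp only [LinearMap.sub_apply, LinearMap.smul_apply, smul_eq_mul, LinearMap.zero_apply,
      sub_eq_zero] at this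
    rw [mul_comm (φ w), this]
  constructor
  · funext t
    have hφ : ∀ u ∈ VI D F, ∀ w, f (ρ (T g t) (ρ u w)) = f (ρ (T g t) w) := fun u hu w => by
      rw [← rep_mul, show T g t * u = (T g t * u * (T g t)⁻¹) * T g t by group, rep_mul,
        hf _ (tor_conj_VI g t hu)]
    have h1 := hprop (f ∘ₗ ρ (T g t)) hφ v'
    simp only [LinearMap.comp_apply, hv.tor, hv'.tor, map_smul, smul_eq_mul] at h1
    exact mul_right_cancel₀ (mul_ne_zero hv0 hv0') (by linear_combination -h1)
  · funext i
    set p := D.simple i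
    let φ : W →ₗ[k] k := ∑ s : F, f ∘ₗ ρ (N g i * X g (A.neg p) s)
    have hφT : ∀ w, φ w = f (Tj g ρ i w) := by
      intro w
      have hη : (A.eta i (A.neg p) : F) ≠ 0 := eta_ne_zero g i.isLt (g.neg_lt _ (g.simple_lt i i.isLt))
      rw [Tj, map_sum]
      simp only [φ, LinearMap.sum_apply, LinearMap.comp_apply]
      refine Fintype.sum_equiv (Equiv.mulLeft₀ _ hη) _ _ fun s => ?_
      rw [show N g i * X g (A.neg p) s = X g p ((A.eta i (A.neg p) : F) * s) * N g i from
        Subtype.ext (n_mul_y g i.isLt s)]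
      rfl
    have hφ : ∀ u ∈ VI D F, ∀ w, φ (ρ u w) = φ w := by
      intro u hu w
      obtain ⟨v₁, hv₁, a, ha⟩ := neg_decomp h i.isLt (show (u : GL D.Idx F) ∈ D.negUnipotent F from hu)
      simp only [φ, LinearMap.sum_apply, LinearMap.comp_apply, ← rep_mul]
      refine Fintype.sum_equiv (Equiv.addRight a) _ _ fun s => ?_
      have hz : ((N g i * X g (A.neg p) s * u * (N g i * X g (A.neg p) (s + a))⁻¹ : ↥(D.group F)) :
          GL D.Idx F) ∈ D.negUnipotent F := by
        push_cast [coe_X, coe_N]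
        rw [ha, show nS F g i * xG g (A.neg p) s * (v₁ * xG g (A.neg p) a) *
            (nS F g i * xG g (A.neg p) (s + a))⁻¹ =
          nS F g i * (xG g (A.neg p) s * v₁ * (xG g (A.neg p) s)⁻¹) * (nS F g i)⁻¹ by
          rw [← xG_add]; group]
        refine UP_negBut_le g i (nS_conj_negBut h i.isLt ?_)
        exact (Subgroup.mem_normalizer_iff.1 (rankOne_le_normalizer_neg h i.isLt
          ((le_sup_right : _ ≤ rankOne F D i) (by
            rw [g.neg_eq _ (g.simple_lt i i.isLt)]
            exact xG_mem_rootSubgroup g _ s))) v₁).1 hv₁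
      show f _ = f (ρ (N g i * X g (A.neg p) (s + a)) w)
      rw [show N g i * X g (A.neg p) s * u =
        (N g i * X g (A.neg p) s * u * (N g i * X g (A.neg p) (s + a))⁻¹) *
          (N g i * X g (A.neg p) (s + a)) by group, rep_mul, hf _ hz]
    have h1 := hprop φ hφ v'
    simp only [hφT, hv.hecke, hv'.hecke, map_smul, smul_eq_mul] at h1
    exact mul_right_cancel₀ (mul_ne_zero hv0 hv0') (by linear_combination -h1)

variable {W' : Type*} [AddCommGroup W'] [Module k W']

/-- **a simple module is determined by its weight** -/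
theorem iso_of_weight [FiniteDimensional k W] [FiniteDimensional k W'] (h : Std D A)
    {ρ : Representation k ↥(D.group F) W} {σ : Representation k ↥(D.group F) W'}
    (hρ : IsSimpleRep ρ) (hσ : IsSimpleRep σ) {v : W} {v' : W'}
    {L : (Fin D.rank → Fˣ) → k} {c : Fin D.rank → k}
    (hv : HasWt h.good ρ v L c) (hv' : HasWt h.good σ v' L c) :
    ∃ e : W ≃ₗ[k] W', ∀ x w, e (ρ x w) = σ x (e w) := by
  classical
  haveI := hρ.nontrivial
  haveI := hσ.nontrivial
  let π : Representation k ↥(D.group F) (W × W') :=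
    { toFun := fun x => (ρ x).prodMap (σ x)
      map_one' := by ext w <;> simp
      map_mul' := fun x y => by ext w <;> simp }
  have hTj : ∀ (i : ℕ) w w', Tj h.good π i (w, w') = (Tj h.good ρ i w, Tj h.good σ i w') := fun i w w' => by
    simp [Tj, π, Prod.ext_iff, Prod.fst_sum, Prod.snd_sum]
  have hpair : IsWt h.good π (v, v') :=
    ⟨fun e => hv.ne (congrArg Prod.fst e), fun u hu => Prod.ext (hv.fix u hu) (hv'.fix u hu),
      fun t => ⟨L t, Prod.ext (hv.tor t) (hv'.tor t)⟩,
      fun i hi => ⟨c ⟨i, hi⟩, by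
        rw [hTj, hv.hecke ⟨i, hi⟩, hv'.hecke ⟨i, hi⟩]; rfl⟩⟩
  set M := negSpan π (v, v') with hM
  have hinv := negSpan_invar h π hpair
  obtain ⟨f, hf0, hf⟩ := exists_inv_functional h ρ
  obtain ⟨f', hf0', hf'⟩ := exists_inv_functional h σ
  have htop : negSpan ρ v = ⊤ := (hρ.eq_bot_or_top _ (negSpan_invar h ρ hv.isWt)).resolve_left
    fun e => hv.ne ((Submodule.mem_bot k).1 (e ▸ mem_negSpan ρ v))
  have htop' : negSpan σ v' = ⊤ := (hσ.eq_bot_or_top _ (negSpan_invar h σ hv'.isWt)).resolve_left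
    fun e => hv'.ne ((Submodule.mem_bot k).1 (e ▸ mem_negSpan σ v'))
  have hv0 : f v ≠ 0 := fun e => hf0 (eq_zero_of_apply htop hf e)
  have hv0' : f' v' ≠ 0 := fun e => hf0' (eq_zero_of_apply htop' hf' e)
  have hMne : M ≠ ⊤ := by
    intro e
    have : (f' v' • f ∘ₗ LinearMap.fst k W W' - f v • f' ∘ₗ LinearMap.snd k W W') = 0 :=
      eq_zero_of_apply (ρ := π) e (fun u hu w => by simp [π, hf u hu, hf' u hu]) (by simp [mul_comm])
    have := LinearMap.congr_fun this (v, 0)
    simp [hv0, hv0'] at this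
  set P₁ := (LinearMap.fst k W W').comp M.subtype with hP₁
  set P₂ := (LinearMap.snd k W W').comp M.subtype with hP₂
  have e₁ : ∀ x w, P₁ (subRep π M hinv x w) = ρ x (P₁ w) := fun x w => rfl
  have e₂ : ∀ x w, P₂ (subRep π M hinv x w) = σ x (P₂ w) := fun x w => rfl
  have hs₁ : Function.Surjective P₁ := (hρ.surjective_or_eq_zero e₁).resolve_right fun e =>
    hv.ne (LinearMap.congr_fun e ⟨(v, v'), mem_negSpan π _⟩)
  have hs₂ : Function.Surjective P₂ := (hσ.surjective_or_eq_zero e₂).resolve_right fun e =>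
    hv'.ne (LinearMap.congr_fun e ⟨(v, v'), mem_negSpan π _⟩)
  have hker₂ : IsInvar σ (M.comap (LinearMap.inr k W W')) := fun x w hw => by
    have := hinv x _ hw
    simpa [π] using this
  have hker₁ : IsInvar ρ (M.comap (LinearMap.inl k W W')) := fun x w hw => by
    have := hinv x _ hw
    simpa [π] using this
  have hi₁ : Function.Injective P₁ := by
    rcases hσ.eq_bot_or_top _ hker₂ with e | e
    · intro a b hab
      refine Subtype.ext (Prod.ext hab ?_)
      have h1 : (a : W × W').2 - (b : W × W').2 ∈ M.comap (LinearMap.inr k W W') := by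
        have := M.sub_mem a.2 b.2
        rwa [show ((a : W × W') - (b : W × W')) = LinearMap.inr k W W' ((a : W × W').2 - (b : W × W').2) from
          Prod.ext (by simp [show (a : W × W').1 = (b : W × W').1 from hab]) rfl] at this
      rw [e, Submodule.mem_bot] at h1
      exact sub_eq_zero.1 h1
    · refine absurd (Submodule.eq_top_iff'.2 fun z => ?_) hMne
      obtain ⟨m, hm⟩ := hs₁ z.1
      have h1 : z.2 - (m : W × W').2 ∈ M.comap (LinearMap.inr k W W') := e ▸ Submodule.mem_top
      have := M.add_mem m.2 h1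
      convert this using 1
      exact Prod.ext (by simp [← hm, hP₁]) (by simp)
  have hi₂ : Function.Injective P₂ := by
    rcases hρ.eq_bot_or_top _ hker₁ with e | e
    · intro a b hab
      refine Subtype.ext (Prod.ext ?_ hab)
      have h1 : (a : W × W').1 - (b : W × W').1 ∈ M.comap (LinearMap.inl k W W') := by
        have := M.sub_mem a.2 b.2
        rwa [show ((a : W × W') - (b : W × W')) = LinearMap.inl k W W' ((a : W × W').1 - (b : W × W').1) from
          Prod.ext rfl (by simp [show (a : W × W').2 = (b : W × W').2 from hab])] at this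
      rw [e, Submodule.mem_bot] at h1
      exact sub_eq_zero.1 h1
    · refine absurd (Submodule.eq_top_iff'.2 fun z => ?_) hMne
      obtain ⟨m, hm⟩ := hs₂ z.2
      have h1 : z.1 - (m : W × W').1 ∈ M.comap (LinearMap.inl k W W') := e ▸ Submodule.mem_top
      have := M.add_mem h1 m.2
      convert this using 1
      exact Prod.ext (by simp) (by simp [← hm, hP₂])
  refine ⟨(LinearEquiv.ofBijective P₁ ⟨hi₁, hs₁⟩).symm.trans (LinearEquiv.ofBijective P₂ ⟨hi₂, hs₂⟩),
    fun x w => ?_⟩
  obtain ⟨m, rfl⟩ := hs₁ w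
  rw [← e₁]
  simp only [LinearEquiv.trans_apply]
  rw [show (LinearEquiv.ofBijective P₁ ⟨hi₁, hs₁⟩).symm (P₁ (subRep π M hinv x m)) = subRep π M hinv x m from
      (LinearEquiv.ofBijective P₁ ⟨hi₁, hs₁⟩).symm_apply_apply _,
    show (LinearEquiv.ofBijective P₁ ⟨hi₁, hs₁⟩).symm (P₁ m) = m from
      (LinearEquiv.ofBijective P₁ ⟨hi₁, hs₁⟩).symm_apply_apply _]
  exact e₂ x m

end CfsgLib.Chev.Weights
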