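import Cfsg.Agent.Lib.Chev.Weights.ParaGroup
import Cfsg.Agent.Lib.Chev.Weights.Uniq

/-!
Curtis–Richen: every admissible weight occurs, in the functions on the group.
-/

set_option autoImplicit false

namespace CfsgLib.Chev.Weights

open Cfsg.Lie CfsgLib.Modular

variable {D : ChevalleyDatum} {A : Aux} {F : Type*} [Field F] {k : Type*} [Field k]

/-- left translation on functions -/
def lt (G : Type*) [Group G] (k : Type*) [Field k] : Representation k G (G → k) where
  toFun g :=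
    { toFun := fun φ x => φ (g⁻¹ * x)
      map_add' := fun _ _ => rfl
      map_smul' := fun _ _ => rfl }
  map_one' := by ext φ x; simp
  map_mul' a b := by ext φ x; simp [mul_assoc]

theorem lt_apply {G : Type*} [Group G] (g : G) (φ : G → k) (x : G) : lt G k g φ x = φ (g⁻¹ * x) := rfl

/-- a decomposition `P'_K H U⁻` -/
def Dec (g : Good D A) (K : Finset ℕ) (x : GL D.Idx F) (c : Fin D.rank → Fˣ) : Prop :=
  ∃ a ∈ PK g K, ∃ v ∈ D.negUnipotent F, x = a * tor D A c * v

/-- cells for the opposite unipotent group are disjoint -/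
theorem opp_cell_unique (h : Std D A) {u n v n' : GL D.Idx F} (hu : u ∈ D.posUnipotent F)
    (hn : n ∈ D.monomialSubgroup F) (hv : v ∈ D.negUnipotent F) (hn' : n' ∈ D.monomialSubgroup F)
    (e : u * n * v = n') : n⁻¹ * n' ∈ D.diagonalSubgroup F := by
  obtain ⟨n₀, hn₀, σ₀, hσ₀, hw⟩ := exists_longest (F := F) h.good
  rw [← longest_conj h.good hσ₀ hw] at hv
  obtain ⟨w, hw', rfl⟩ := hv
  have h1 : InCell D (n * n₀) (n' * n₀) :=
    ⟨u, pos_le_borel hu, w, pos_le_borel hw', by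
      rw [← e]
      show u * n * (n₀ * w * n₀⁻¹) * n₀ = u * (n * n₀) * w
      group⟩
  have h2 := inCell_unique h (mul_mem hn hn₀) (mul_mem hn' hn₀) h1 (inCell_self _)
  rw [diagonalSubgroup_eq h.good] at h2 ⊢
  obtain ⟨c, hc⟩ := h2
  obtain ⟨d, hd⟩ := monomial_conj_tor h.good hn₀ c
  refine ⟨d, ?_⟩
  rw [← hd, hc]
  group

/-- the torus part of an element of `U H U⁻` is unique -/
theorem tor_part_unique (h : Std D A) {u t v d : GL D.Idx F} (hu : u ∈ D.posUnipotent F)
    (ht : t ∈ D.diagonalSubgroup F) (hv : v ∈ D.negUnipotent F) (hd : d ∈ D.diagonalSubgroup F)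
    (e : u * t * v = d) : t = d := by
  have hv1 : v = 1 := by
    have hb : v ∈ D.borelSubgroup F := by
      rw [show v = t⁻¹ * u⁻¹ * d by rw [← e]; group]
      exact mul_mem (mul_mem (inv_mem (diagonal_le_borel ht)) (inv_mem (pos_le_borel hu)))
        (diagonal_le_borel hd)
    have := borel_inf_negUnipotent (F := F) h
    exact Subgroup.mem_bot.1 (this ▸ (⟨hb, hv⟩ : v ∈ D.borelSubgroup F ⊓ D.negUnipotent F))
  rw [hv1, mul_one] at e
  have hu1 : u = 1 := by
    have hud : u ∈ D.diagonalSubgroup F := by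
      rw [show u = d * t⁻¹ by rw [← e]; group]
      exact mul_mem hd (inv_mem ht)
    have : u ∈ D.posUnipotent F ⊓ D.diagonalSubgroup F := ⟨hu, hud⟩
    rwa [posUnipotent_inf_diagonal h, Subgroup.mem_bot] at this
  rw [hu1, one_mul] at e
  exact e

theorem dec_unique (h : Para D A) {K : Finset ℕ} {x : GL D.Idx F} {c c' : Fin D.rank → Fˣ}
    (hc : Dec h.std.good K x c) (hc' : Dec h.std.good K x c') :
    (tor D A (c⁻¹ * c') : GL D.Idx F) ∈ torK D A F K := by
  have g := h.std.good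
  obtain ⟨a, ha, v, hv, e⟩ := hc
  obtain ⟨a', ha', v', hv', e'⟩ := hc'
  have hp : a⁻¹ * a' ∈ PK h.std.good K := mul_mem (inv_mem ha) ha'
  obtain ⟨u, hu, m, hm, w, hw, e2⟩ := PK_opposite h hp
  -- a⁻¹ a' = t v v'⁻¹ t'⁻¹
  have e3 : a⁻¹ * a' = tor D A c * (v * v'⁻¹) * (tor D A c')⁻¹ := by
    rw [show a' = x * v'⁻¹ * (tor D A c')⁻¹ by rw [e']; group, e]
    group
  have hz := tor_conj_negUnipotent h.std.good c' (mul_mem hv (inv_mem hv'))
  set d : GL D.Idx F := tor D A c * (tor D A c')⁻¹ with hd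
  have hdD : d ∈ D.diagonalSubgroup F := by
    rw [diagonalSubgroup_eq g]; exact ⟨c * c'⁻¹, by rw [map_mul, map_inv]⟩
  have e4 : u * m * (w * (tor D A c' * (v * v'⁻¹) * (tor D A c')⁻¹)⁻¹) = d := by
    rw [show u * m * (w * (tor D A c' * (v * v'⁻¹) * (tor D A c')⁻¹)⁻¹) =
      u * m * w * (tor D A c' * (v * v'⁻¹) * (tor D A c')⁻¹)⁻¹ by group, ← e2, e3, hd]
    group
  have hwN := mul_mem hw (inv_mem hz)
  have hmd := opp_cell_unique h.std hu (WN_le_monomial _ _ hm) hwN
    (diag_le_monomial hdD) e4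
  have hmdiag : m ∈ D.diagonalSubgroup F := by
    rw [show m = d * (m⁻¹ * d)⁻¹ by group]
    exact mul_mem hdD (inv_mem hmd)
  have h5 := tor_part_unique h.std hu hmdiag hwN hdD e4
  have h6 := inv_mem (WN_inf_diagonal g hm hmdiag)
  rw [h5, hd] at h6
  rwa [show (tor D A (c⁻¹ * c') : GL D.Idx F) = (tor D A c * (tor D A c')⁻¹)⁻¹ by
      rw [← map_inv, ← map_mul, ← map_inv]; congr 1; rw [mul_inv_rev, inv_inv, mul_comm]]

open Classical in
/-- the weight vector -/
noncomputable def wfun (g : Good D A) (K : Finset ℕ) (Λ : (Fin D.rank → Fˣ) →* kˣ) :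
    ↥(D.group F) → k :=
  fun x => if hx : ∃ c, Dec g K (x : GL D.Idx F) c then (((Λ hx.choose)⁻¹ : kˣ) : k) else 0

/-- the data of an admissible weight -/
structure Adm (g : Good D A) (K : Finset ℕ) (Λ : (Fin D.rank → Fˣ) →* kˣ) : Prop where
  inj : Function.Injective (tor D A : (Fin D.rank → Fˣ) →* GL D.Idx F)
  triv : ∀ c : Fin D.rank → Fˣ, (∀ i : Fin D.rank, (i : ℕ) ∉ K → c i = 1) → Λ c = 1
  range : ∀ j ∈ K, j < D.rank

variable {K : Finset ℕ} {Λ : (Fin D.rank → Fˣ) →* kˣ}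

theorem wfun_of_dec (h : Para D A) (hA : Adm h.std.good K Λ) {x : ↥(D.group F)}
    {c : Fin D.rank → Fˣ} (hc : Dec h.std.good K (x : GL D.Idx F) c) :
    wfun h.std.good K Λ x = (((Λ c)⁻¹ : kˣ) : k) := by
  have hx : ∃ c, Dec h.std.good K (x : GL D.Idx F) c := ⟨c, hc⟩
  rw [wfun, dif_pos hx]
  obtain ⟨e, he, hee⟩ := dec_unique h hx.choose_spec hc
  have h1 := hA.inj hee
  have h2 := hA.triv e he
  rw [h1, map_mul, map_inv, inv_mul_eq_one] at h2
  rw [h2]

theorem wfun_ne_zero {g : Good D A} {x : ↥(D.group F)} (hx : wfun g K Λ x ≠ 0) :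
    ∃ c, Dec g K (x : GL D.Idx F) c := by
  by_contra hno
  exact hx (dif_neg hno)

theorem wfun_one (h : Para D A) (hA : Adm h.std.good K Λ) : wfun h.std.good K Λ 1 = 1 := by
  rw [wfun_of_dec h hA (c := 1) ⟨1, one_mem _, 1, one_mem _, by simp⟩, map_one, inv_one, Units.val_one]

theorem wfun_left (h : Para D A) (hA : Adm h.std.good K Λ) {p : ↥(D.group F)}
    (hp : (p : GL D.Idx F) ∈ PK h.std.good K) (x : ↥(D.group F)) :
    wfun h.std.good K Λ (p * x) = wfun h.std.good K Λ x := by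
  by_cases hx : ∃ c, Dec h.std.good K (x : GL D.Idx F) c
  · obtain ⟨c, hc⟩ := hx
    obtain ⟨a, ha, v, hv, e⟩ := hc
    rw [wfun_of_dec h hA ⟨a, ha, v, hv, e⟩,
      wfun_of_dec h hA (x := p * x) (c := c) ⟨(p : GL D.Idx F) * a, mul_mem hp ha, v, hv, by
        rw [Subgroup.coe_mul, e]; group⟩]
  · have hx' : ¬ ∃ c, Dec h.std.good K ((p * x : ↥(D.group F)) : GL D.Idx F) c := by
      rintro ⟨c, a, ha, v, hv, e⟩
      exact hx ⟨c, (p : GL D.Idx F)⁻¹ * a, mul_mem (inv_mem hp) ha, v, hv, by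
        rw [Subgroup.coe_mul] at e
        rw [show (x : GL D.Idx F) = (p : GL D.Idx F)⁻¹ * ((p : GL D.Idx F) * x) by group, e]; group⟩
    rw [wfun, dif_neg hx', wfun, dif_neg hx]

theorem tor_conj_PK (g : Good D A) (c : Fin D.rank → Fˣ) {a : GL D.Idx F} (ha : a ∈ PK g K) :
    tor D A c * a * (tor D A c)⁻¹ ∈ PK g K := by
  suffices PK g K ≤ (PK g K).comap (MulAut.conj (tor D A c : GL D.Idx F)).toMonoidHom from this ha
  have hT : tor D A c ∈ D.diagonalSubgroup F := by rw [diagonalSubgroup_eq g]; exact ⟨c, rfl⟩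
  refine sup_le (fun u hu => Subgroup.mem_sup_left (tor_conj_pos_mem g hT hu))
    (sup_le ((Subgroup.closure_le _).2 ?_) fun t ht => ?_)
  · rintro y ⟨j, hj, hj', rfl⟩
    show tor D A c * nS F g j * (tor D A c)⁻¹ ∈ PK g K
    rw [show tor D A c * nS F g j * (tor D A c)⁻¹ =
      tor D A c * (nS F g j * tor D A c⁻¹ * (nS F g j)⁻¹) * nS F g j by rw [map_inv]; group,
      nS_conj_tor g hj', ← map_mul, mul_inv_cancel_left]
    exact Subgroup.mem_sup_right (mul_mem (Subgroup.mem_sup_right (hS_mem_torK hj hj' _))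
      (Subgroup.mem_sup_left (nS_mem_WJ g hj hj')))
  · show tor D A c * t * (tor D A c)⁻¹ ∈ PK g K
    obtain ⟨d, hd, rfl⟩ := ht
    rw [tor_mul_comm, mul_inv_cancel_right]
    exact Subgroup.mem_sup_right (Subgroup.mem_sup_right ⟨d, hd, rfl⟩)

theorem wfun_tor (h : Para D A) (hA : Adm h.std.good K Λ) (c : Fin D.rank → Fˣ) (x : ↥(D.group F)) :
    wfun h.std.good K Λ (T h.std.good c * x) = (((Λ c)⁻¹ : kˣ) : k) * wfun h.std.good K Λ x := by
  have g := h.std.good
  have key : ∀ (c : Fin D.rank → Fˣ) (x : ↥(D.group F)) d, Dec h.std.good K (x : GL D.Idx F) d →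
      Dec h.std.good K ((T h.std.good c * x : ↥(D.group F)) : GL D.Idx F) (c * d) := by
    rintro c x d ⟨a, ha, v, hv, e⟩
    exact ⟨_, tor_conj_PK _ c ha, v, hv, by rw [Subgroup.coe_mul, coe_T, e, map_mul]; group⟩
  by_cases hx : ∃ d, Dec h.std.good K (x : GL D.Idx F) d
  · obtain ⟨d, hd⟩ := hx
    rw [wfun_of_dec h hA hd, wfun_of_dec h hA (key c x d hd), map_mul, mul_inv, Units.val_mul]
  · have hx' : ¬ ∃ d, Dec h.std.good K ((T h.std.good c * x : ↥(D.group F)) : GL D.Idx F) d := by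
      rintro ⟨d, hd⟩
      have := key c⁻¹ _ _ hd
      rw [← mul_assoc, map_inv, inv_mul_cancel, one_mul] at this
      exact hx ⟨_, this⟩
    rw [wfun, dif_neg hx', wfun, dif_neg hx, mul_zero]

theorem wfun_right (h : Para D A) (hA : Adm h.std.good K Λ) {v : ↥(D.group F)}
    (hv : (v : GL D.Idx F) ∈ D.negUnipotent F) (x : ↥(D.group F)) :
    wfun h.std.good K Λ (x * v) = wfun h.std.good K Λ x := by
  by_cases hx : ∃ c, Dec h.std.good K (x : GL D.Idx F) c
  · obtain ⟨c, a, ha, w, hw, e⟩ := hx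
    rw [wfun_of_dec h hA ⟨a, ha, w, hw, e⟩,
      wfun_of_dec h hA (x := x * v) (c := c) ⟨a, ha, w * v, mul_mem hw hv, by rw [Subgroup.coe_mul, e]; group⟩]
  · have hx' : ¬ ∃ c, Dec h.std.good K ((x * v : ↥(D.group F)) : GL D.Idx F) c := by
      rintro ⟨c, a, ha, w, hw, e⟩
      exact hx ⟨c, a, ha, w * (v : GL D.Idx F)⁻¹, mul_mem hw (inv_mem hv), by
        rw [Subgroup.coe_mul] at e
        rw [show (x : GL D.Idx F) = (x : GL D.Idx F) * v * (v : GL D.Idx F)⁻¹ by group, e]; group⟩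
    rw [wfun, dif_neg hx', wfun, dif_neg hx]

theorem wfun_supp (h : Para D A) {n : ↥(D.group F)}
    (hn : (n : GL D.Idx F) ∈ D.monomialSubgroup F) (hne : wfun h.std.good K Λ n ≠ 0) :
    ∃ σ, Acts h.std.good (n : GL D.Idx F) σ ∧
      ∀ r < D.nroots, ∀ i < D.rank, i ∉ K → A.a (σ r) i = A.a r i := by
  have g := h.std.good
  obtain ⟨c, a, ha, v, hv, e⟩ := wfun_ne_zero hne
  obtain ⟨u, hu, m, hm, w, hw, rfl⟩ := PK_opposite h ha
  have hw' := tor_conj_negUnipotent h.std.good c⁻¹ hw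
  rw [map_inv, inv_inv] at hw'
  have hT : tor D A c ∈ D.monomialSubgroup F := tor_mem_monomial g c
  have e2 : u * (m * tor D A c) * ((tor D A c)⁻¹ * w * tor D A c * v) = (n : GL D.Idx F) := by
    rw [e]; group
  have hd := opp_cell_unique h.std hu (mul_mem (WN_le_monomial _ _ hm) hT) (mul_mem hw' hv) hn e2
  obtain ⟨σ, hσ, hσK⟩ := WN_acts h.std.good hm
  refine ⟨σ, ?_, hσK⟩
  have h2 := (hσ.mul (acts_tor h.std.good c)).mul (acts_diag h.std.good hd)
  rwa [mul_inv_cancel_left] at h2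

variable [Fintype F]

open Classical in
/-- the Hecke eigenvalue of the weight at `j` -/
noncomputable def Lsum (Λ : (Fin D.rank → Fˣ) →* kˣ) (j : Fin D.rank) : k :=
  ∑ s : Fˣ, ((Λ (Pi.mulSingle j s) : kˣ) : k)

theorem opp_bruhat (h : Std D A) (x : ↥(D.group F)) :
    ∃ u ∈ UI D F, ∃ n : ↥(D.group F), (n : GL D.Idx F) ∈ D.monomialSubgroup F ∧
      ∃ v : ↥(D.group F), (v : GL D.Idx F) ∈ D.negUnipotent F ∧ x = u * n * v := by
  have g := h.good
  obtain ⟨n₀, hn₀, σ₀, hσ₀, hw⟩ := exists_longest (F := F) h.good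
  obtain ⟨b, hb, n, hn, b', hb', e⟩ :=
    bruhat h (mul_mem x.2 (monomialSubgroup_le_group g hn₀))
  obtain ⟨u, hu, c, rfl⟩ := (mem_borel_iff g).1 hb
  obtain ⟨w, hw', d, hwd⟩ := (mem_borel_iff g).1 (inv_mem hb')
  have hv : n₀ * w⁻¹ * n₀⁻¹ ∈ D.negUnipotent F := by
    rw [← longest_conj g hσ₀ hw]; exact ⟨w⁻¹, inv_mem hw', rfl⟩
  have hm : tor D A c * n * (tor D A d)⁻¹ * n₀⁻¹ ∈ D.monomialSubgroup F :=
    mul_mem (mul_mem (mul_mem (tor_mem_monomial g c) hn) (inv_mem (tor_mem_monomial g d)))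
      (inv_mem hn₀)
  have hvG : n₀ * w⁻¹ * n₀⁻¹ ∈ D.group F :=
    mul_mem (mul_mem (monomialSubgroup_le_group g hn₀) (inv_mem (posUnipotent_le_group g hw')))
      (inv_mem (monomialSubgroup_le_group g hn₀))
  refine ⟨⟨u, posUnipotent_le_group g hu⟩, hu, ⟨_, monomialSubgroup_le_group g hm⟩, hm,
    ⟨_, hvG⟩, hv, Subtype.ext ?_⟩
  show (x : GL D.Idx F) = u * (tor D A c * n * (tor D A d)⁻¹ * n₀⁻¹) * (n₀ * w⁻¹ * n₀⁻¹)
  rw [show (x : GL D.Idx F) = (x : GL D.Idx F) * n₀ * n₀⁻¹ by group, e,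
    show b' = (w * tor D A d)⁻¹ by rw [← hwd, inv_inv]]
  group

theorem lt_fixU (h : Para D A) (hA : Adm h.std.good K Λ) :
    FixU (lt ↥(D.group F) k) (wfun h.std.good K Λ) := fun u hu => funext fun x => by
  rw [lt_apply]
  exact wfun_left h hA (Subgroup.mem_sup_left (by
    show ((u⁻¹ : ↥(D.group F)) : GL D.Idx F) ∈ D.posUnipotent F
    exact inv_mem hu)) x

theorem lt_tor (h : Para D A) (hA : Adm h.std.good K Λ) (t : Fin D.rank → Fˣ) :
    lt ↥(D.group F) k (T h.std.good t) (wfun h.std.good K Λ) =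
      ((Λ t : kˣ) : k) • wfun h.std.good K Λ := funext fun x => by
  rw [lt_apply, ← map_inv, wfun_tor h hA, map_inv, inv_inv]
  rfl

variable [CharP k (ringChar F)]

/-- **every admissible weight occurs** -/
theorem hasWt_wfun (h : Para D A) (hA : Adm h.std.good K Λ) :
    HasWt h.std.good (lt ↥(D.group F) k) (wfun h.std.good K Λ) (fun t => ((Λ t : kˣ) : k))
      (fun j => if (j : ℕ) ∈ K then 0 else Lsum Λ j) := by
  classical
  have g := h.std.good
  refine ⟨fun e => ?_, lt_fixU h hA, lt_tor h hA, fun j => ?_⟩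
  · have := congrFun e 1
    rw [wfun_one h hA] at this
    exact one_ne_zero this
  set f := wfun h.std.good K Λ
  set c : k := if (j : ℕ) ∈ K then 0 else Lsum Λ j
  funext x
  obtain ⟨u, hu, n, hn, v, hv, rfl⟩ := opp_bruhat h.std x
  have hT : FixU (lt ↥(D.group F) k) (Tj h.std.good (lt ↥(D.group F) k) j f) :=
    Tj_fixU h.std _ (lt_fixU h hA) j.isLt
  have hred : ∀ φ : ↥(D.group F) → k, FixU (lt ↥(D.group F) k) φ → φ (u * n * v) = φ (n * v) :=
    fun φ hφ => by
      have := congrFun (hφ u⁻¹ (inv_mem hu)) (n * v)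
      rw [lt_apply, inv_inv, ← mul_assoc] at this
      exact this
  rw [hred _ hT, Pi.smul_apply, show f (u * n * v) = f (n * v) from hred _ (lt_fixU h hA),
    show f (n * v) = f n from wfun_right h hA hv n, Tj, Finset.sum_apply]
  simp only [lt_apply, ← mul_assoc, f, wfun_right h hA hv]
  obtain ⟨σ, hσ⟩ := exists_acts h.std.good hn
  obtain ⟨q, hq, hσq⟩ := hσ.surj (g.simple_lt j j.isLt)
  set p := D.simple j with hp
  have hXN : ∀ s : F, (X h.std.good p s * N h.std.good j)⁻¹ * n =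
      (N h.std.good (j : ℕ))⁻¹ * (X h.std.good p (-s) * n) := fun s => Subtype.ext (by
    push_cast [coe_X, coe_N]
    rw [← xG_inv]; group)
  by_cases hqp : D.IsPosRoot q
  · -- the fundamental reflection lengthens
    have hneg : D.IsNegRoot (A.neg q) := isNeg_of_not_pos g (g.neg_lt q hq) (not_pos_neg g hqp)
    have hterm : ∀ s : Fˣ, wfun h.std.good K Λ ((X h.std.good p (s : F) * N h.std.good j)⁻¹ * n) =
        ((Λ (Pi.mulSingle j (-s)) : kˣ) : k) * wfun h.std.good K Λ n := by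
      intro s
      obtain ⟨b, hb⟩ := hσ.push (g.neg_lt q hq) (-((s⁻¹ : Fˣ) : F))
      rw [hσ.map.map_neg g hq, hσq] at hb
      have e : (X h.std.good p (s : F) * N h.std.good j)⁻¹ * n =
          X h.std.good p ((s⁻¹ : Fˣ) : F) * (T h.std.good (Pi.mulSingle j (-s))⁻¹ * n) *
            X h.std.good (A.neg q) b := Subtype.ext (by
        push_cast [coe_X, coe_N, coe_T]
        rw [x_mul_n h.std.good j.isLt s, hS, map_inv,
          show ∀ y₁ y₂ y₃ y₄ : GL D.Idx F, y₁ * (y₂ * y₃) * y₄ = y₁ * y₂ * (y₃ * y₄) from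
            fun _ _ _ _ => by group, ← hb, ← xG_inv h.std.good (D.simple j), ← xG_inv h.std.good (A.neg p)]
        simp only [p, Fin.eta, Units.val_inv_eq_inv_val]
        group)
      rw [e, wfun_right h hA (xG_mem_negUnipotent g hneg b),
        wfun_left h hA (Subgroup.mem_sup_left (xG_mem_posUnipotent g (simple_pos g j.isLt) _)),
        wfun_tor h hA, map_inv, inv_inv]
    rw [← Finset.add_sum_erase _ _ (Finset.mem_univ (0 : F))]
    have hsum : ∑ s ∈ Finset.univ.erase (0 : F),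
        wfun h.std.good K Λ ((X h.std.good p s * N h.std.good j)⁻¹ * n) =
        Lsum Λ j * wfun h.std.good K Λ n := by
      rw [Lsum, Finset.sum_mul]
      refine Finset.sum_bij' (fun s hs => -Units.mk0 s (Finset.ne_of_mem_erase hs))
        (fun u _ => ((-u : Fˣ) : F)) (fun _ _ => Finset.mem_univ _)
        (fun u _ => Finset.mem_erase.2 ⟨(-u).ne_zero, Finset.mem_univ _⟩)
        (fun s hs => by simp) (fun u _ => Units.ext (by simp)) fun s hs => ?_
      have := hterm (Units.mk0 s (Finset.ne_of_mem_erase hs))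
      rw [Units.val_mk0] at this
      exact this
    rw [hsum, hXN 0, neg_zero, show X h.std.good p (0 : F) = 1 from Subtype.ext (xG_zero h.std.good p), one_mul]
    by_cases hjK : (j : ℕ) ∈ K
    · have h1 : wfun h.std.good K Λ ((N h.std.good (j : ℕ))⁻¹ * n) = wfun h.std.good K Λ n :=
        wfun_left h hA (by
          show ((N h.std.good (j : ℕ) : ↥(D.group F)) : GL D.Idx F)⁻¹ ∈ _
          exact inv_mem (Subgroup.mem_sup_right (Subgroup.mem_sup_left (nS_mem_WJ _ hjK j.isLt)))) n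
      have h2 : Lsum Λ j = -1 := by
        rw [Lsum, Finset.sum_congr rfl fun s _ => by
          rw [hA.triv (Pi.mulSingle j s) fun i hi => Pi.mulSingle_eq_of_ne (fun e => hi (by rw [e]; exact hjK)) _,
            Units.val_one], Finset.sum_const, Finset.card_univ, Fintype.card_units, nsmul_one]
        have h3 : (Fintype.card F : k) = 0 := by
          obtain ⟨p', hp'⟩ := CharP.exists F
          obtain ⟨m, -, hm⟩ := FiniteField.card F p'
          rw [hm, Nat.cast_pow, ← ringChar.eq F p', CharP.cast_eq_zero, zero_pow m.pos.ne']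
        rw [Nat.cast_sub Fintype.card_pos, h3, Nat.cast_one, zero_sub]
      simp only [c, if_pos hjK, zero_smul, h1, h2]
      ring
    · have h1 : wfun h.std.good K Λ ((N h.std.good (j : ℕ))⁻¹ * n) = 0 := by
        by_contra hne
        have hn' : (((N h.std.good (j : ℕ))⁻¹ * n : ↥(D.group F)) : GL D.Idx F) ∈ D.monomialSubgroup F :=
          mul_mem (inv_mem (nS_mem_monomial g j.isLt)) hn
        obtain ⟨σ', hσ', hK'⟩ := wfun_supp h hn' hne
        have hcomp : Acts h.std.good (n : GL D.Idx F) (A.refl j ∘ σ') := by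
          have := (acts_nS (F := F) h.std.good j.isLt).mul hσ'
          push_cast [coe_N] at this
          rwa [mul_inv_cancel_left] at this
        have h2 := hcomp.unique hσ (g.neg_lt q hq)
        rw [Function.comp_apply, hσ.map.map_neg g hq, hσq] at h2
        have h3 := congrArg (A.refl j) h2
        rw [g.refl_refl j j.isLt _ (hσ'.map.1 _ (g.neg_lt q hq)), refl_neg_simple g j.isLt] at h3
        have h4 := hK' _ (g.neg_lt q hq) j j.isLt hjK
        rw [h3, g.a_simple j j.isLt j j.isLt, if_pos rfl, g.a_neg q hq] at h4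
        have := (g.pos_iff q hq).1 hqp j
        omega
      simp only [c, if_neg hjK, h1, zero_add, smul_eq_mul]
  · -- the fundamental reflection shortens: the sum is a multiple of `q`
    have hterm : ∀ s : F, wfun h.std.good K Λ ((X h.std.good p s * N h.std.good j)⁻¹ * n) =
        wfun h.std.good K Λ ((N h.std.good (j : ℕ))⁻¹ * n) := by
      intro s
      obtain ⟨b, hb⟩ := hσ.push hq (-s)
      rw [hσq] at hb
      rw [hXN s, show X h.std.good p (-s) * n = n * X h.std.good q b from Subtype.ext hb, ← mul_assoc,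
        wfun_right h hA (xG_mem_negUnipotent g (isNeg_of_not_pos g hq hqp) b)]
    rw [Finset.sum_congr rfl fun s _ => hterm s, sum_field_zero k]
    by_cases hjK : (j : ℕ) ∈ K
    · simp [c, hjK]
    · rw [show wfun h.std.good K Λ n = 0 from ?_, smul_zero]
      by_contra hne
      obtain ⟨σ', hσ', hK'⟩ := wfun_supp h hn hne
      have h4 := hK' q hq j j.isLt hjK
      rw [hσ'.unique hσ hq, hσq, g.a_simple j j.isLt j j.isLt, if_pos rfl] at h4
      have := (g.negRoot_iff q hq).1 (isNeg_of_not_pos g hq hqp) j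
      omega

end CfsgLib.Chev.Weights
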