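import Cfsg.Agent.Lib.Chev.ParaCells
import Cfsg.Agent.Lib.Chev.Orders

/-!
Rank-one identities used for the weight vectors of modules in the defining characteristic.
-/

set_option autoImplicit false

namespace CfsgLib.Chev.Weights

open Cfsg.Lie

variable {D : ChevalleyDatum} {A : Aux} {F : Type*} [Field F]

/-- `h_i(t)` -/
noncomputable def hS (D : ChevalleyDatum) (A : Aux) {i : ℕ} (hi : i < D.rank) (t : Fˣ) : GL D.Idx F :=
  tor D A (Pi.mulSingle ⟨i, hi⟩ t)

theorem hS_mul {i : ℕ} (hi : i < D.rank) (t u : Fˣ) :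
    (hS D A hi (t * u) : GL D.Idx F) = hS D A hi t * hS D A hi u := by
  rw [hS, hS, hS, ← map_mul, ← Pi.mulSingle_mul]

theorem nG_eq (g : Good D A) {i : ℕ} (hi : i < D.rank) (t : Fˣ) :
    nG g (D.simple i) (t : F) = hS D A hi t * nS F g i := by
  have := hG_simple g ⟨i, hi⟩ t
  rw [hS, ← this]
  show _ = hG g (D.simple i) (t : F) * nS F g i
  rw [hG, nS, nG_neg g (g.simple_lt i hi)]
  group

theorem chi_single (g : Good D A) {i : ℕ} (hi : i < D.rank) (t : Fˣ) :
    chi D A (Pi.mulSingle (⟨i, hi⟩ : Fin D.rank) t) (D.simple i) = t ^ (2 : ℤ) := by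
  rw [chi, Finset.prod_eq_single ⟨i, hi⟩]
  · rw [Pi.mulSingle_eq_same, g.cart_simple i hi]
  · intro j _ hj; simp [hj]
  · simp

theorem hS_conj_neg (g : Good D A) {i : ℕ} (hi : i < D.rank) (t : Fˣ) (s : F) :
    hS D A hi t * xG g (A.neg (D.simple i)) s =
      xG g (A.neg (D.simple i)) (((t ^ (2 : ℤ))⁻¹ : Fˣ) * s) * hS D A hi t := by
  have := tor_conj_xG g (Pi.mulSingle (⟨i, hi⟩ : Fin D.rank) t) (g.neg_lt _ (g.simple_lt i hi)) s
  rw [chi_neg g _ (g.simple_lt i hi), chi_single g hi] at this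
  rw [hS, ← this, inv_mul_cancel_right]

theorem hS_conj_pos (g : Good D A) {i : ℕ} (hi : i < D.rank) (t : Fˣ) (s : F) :
    hS D A hi t * xG g (D.simple i) s =
      xG g (D.simple i) (((t ^ (2 : ℤ)) : Fˣ) * s) * hS D A hi t := by
  have := tor_conj_xG g (Pi.mulSingle (⟨i, hi⟩ : Fin D.rank) t) (g.simple_lt i hi) s
  rw [chi_single g hi] at this
  rw [hS, ← this, inv_mul_cancel_right]

/-- `x(s) n = y(1/s) h(-s) x(-1/s)` -/
theorem x_mul_n (g : Good D A) {i : ℕ} (hi : i < D.rank) (s : Fˣ) :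
    xG g (D.simple i) (s : F) * nS F g i =
      xG g (A.neg (D.simple i)) ((s⁻¹ : Fˣ) : F) * hS D A hi (-s) *
        xG g (D.simple i) (-((s⁻¹ : Fˣ) : F)) := by
  set p := D.simple i
  set t : Fˣ := -s⁻¹ with ht
  have hsl := g.simple_lt i hi
  have e1 : nG g p (t : F) = xG g p (t : F) * xG g (A.neg p) (s : F) * xG g p (t : F) := by
    rw [nG, g.neg_eq p hsl, show (-((t : F))⁻¹) = (s : F) by simp [ht, ← Units.val_inv_eq_inv_val]]
  rw [nG_eq g hi] at e1
  have e2 : xG g p (-(t : F)) * hS D A hi t = hS D A hi t * xG g p (s : F) := by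
    rw [hS_conj_pos g hi]
    congr 2
    simp [ht]
    field_simp
  have e3 : hS D A hi t * (xG g p (s : F) * nS F g i) = xG g (A.neg p) (s : F) * xG g p (t : F) := by
    rw [← mul_assoc, ← e2, mul_assoc, e1, ← xG_inv]
    group
  have e4 : xG g p (s : F) * nS F g i =
      hS D A hi t⁻¹ * (xG g (A.neg p) (s : F) * xG g p (t : F)) := by
    rw [← e3, ← mul_assoc, ← hS_mul, inv_mul_cancel, hS, Pi.mulSingle_one, map_one, one_mul]
  rw [e4, ← mul_assoc, hS_conj_neg g hi]
  have ht1 : t⁻¹ = -s := by rw [ht, inv_neg, inv_inv]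
  rw [ht1, show (((-s) ^ (2 : ℤ))⁻¹ : Fˣ) * (s : F) = ((s⁻¹ : Fˣ) : F) by simp; field_simp,
    show ((t : F)) = -((s⁻¹ : Fˣ) : F) by simp [ht]]

/-- `y(1/s) = x(s) n x(1/s) h(-s)⁻¹` -/
theorem y_eq (g : Good D A) {i : ℕ} (hi : i < D.rank) (s : Fˣ) :
    xG g (A.neg (D.simple i)) ((s⁻¹ : Fˣ) : F) =
      xG g (D.simple i) (s : F) * nS F g i * xG g (D.simple i) ((s⁻¹ : Fˣ) : F) *
        (hS D A hi (-s))⁻¹ := by
  rw [x_mul_n g hi, ← xG_inv]
  group

theorem refl_neg_simple (g : Good D A) {i : ℕ} (hi : i < D.rank) :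
    A.refl i (A.neg (D.simple i)) = D.simple i := by
  rw [g.refl_neg i hi _ (g.simple_lt i hi), refl_simple g hi, g.neg_neg _ (g.simple_lt i hi)]

theorem n_mul_y (g : Good D A) {i : ℕ} (hi : i < D.rank) (a : F) :
    nS F g i * xG g (A.neg (D.simple i)) a =
      xG g (D.simple i) ((A.eta i (A.neg (D.simple i)) : F) * a) * nS F g i := by
  have := nS_conj_xG (F := F) g hi (g.neg_lt _ (g.simple_lt i hi)) a
  rw [refl_neg_simple g hi] at this
  rw [← this, inv_mul_cancel_right]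

theorem n_mul_x (g : Good D A) {i : ℕ} (hi : i < D.rank) (a : F) :
    nS F g i * xG g (D.simple i) a =
      xG g (A.neg (D.simple i)) ((A.eta i (D.simple i) : F) * a) * nS F g i := by
  have := nS_conj_xG (F := F) g hi (g.simple_lt i hi) a
  rw [refl_simple g hi] at this
  rw [← this, inv_mul_cancel_right]

/-- negative roots other than `-p_i` -/
def negBut (D : ChevalleyDatum) (A : Aux) (i : ℕ) (r : ℕ) : Prop :=
  D.IsNegRoot r ∧ r ≠ A.neg (D.simple i)

theorem neg_pos_of_isNeg (g : Good D A) {r : ℕ} (hr : D.IsNegRoot r) (hlt : r < D.nroots) :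
    D.IsPosRoot (A.neg r) :=
  (pos_or_pos_neg g hlt).resolve_left (not_pos_of_isNeg g hr)

theorem rankOne_le_normalizer_neg (h : Std D A) {i : ℕ} (hi : i < D.rank) :
    rankOne F D i ≤ Subgroup.normalizer (UP F h.good (negBut D A i) : Set (GL D.Idx F)) := by
  have g := h.good
  have hsi := g.simple_lt i hi
  have key : ∀ p, (p = D.simple i ∨ p = A.neg (D.simple i)) → ∀ s, negBut D A i s → ∀ t u : F,
      xG h.good p t * xG h.good s u * (xG h.good p t)⁻¹ ∈ UP F h.good (negBut D A i) := by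
    intro p hp s hs t u
    have hlt : s < D.nroots := hs.1.1
    have hpos := neg_pos_of_isNeg g hs.1 hlt
    have hne : A.neg s ≠ D.simple i := fun e => hs.2 (by rw [← e, g.neg_neg s hlt])
    have hne1 : s ≠ D.simple i := fun e =>
      not_pos_of_isNeg g hs.1 (e ▸ simple_pos g hi)
    have hp' : p < D.nroots ∧ s ≠ p ∧ s ≠ A.neg p := by
      rcases hp with rfl | rfl
      · exact ⟨hsi, hne1, hs.2⟩
      · exact ⟨g.neg_lt _ hsi, hs.2, by rw [g.neg_neg _ hsi]; exact hne1⟩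
    refine conj_xG_mem h hp'.1 hlt hp'.2.1 hp'.2.2 hs (fun w hw m k _ hk e => ?_) t u
    obtain ⟨j, hj, hji, hjp⟩ := exists_coord_pos g hi hpos hne
    rw [g.a_neg s hlt] at hjp
    obtain ⟨h1, h2⟩ := simple_coord g hi hj hji
    have hjw : A.a w j < 0 := by
      rw [e j hj]
      have h3 : A.a p j = 0 := by rcases hp with rfl | rfl <;> assumption
      have h4 : (1 : ℤ) ≤ (k : ℤ) := by exact_mod_cast hk
      rw [h3, mul_zero, zero_add]
      nlinarith
    refine ⟨(g.negRoot_iff w hw).2 ?_, fun he => ?_⟩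
    · rcases g.pos_or_neg w hw with h5 | h5
      · exact absurd (h5 j) (by omega)
      · exact h5
    · rw [he, h2] at hjw
      omega
  refine sup_le (mem_normalizer_UP fun y hy r u hr => ?_) (mem_normalizer_UP fun y hy r u hr => ?_)
  · obtain ⟨t, rfl⟩ := (mem_rootSubgroup_iff g).1 hy
    exact key _ (Or.inl rfl) r hr t u
  · obtain ⟨t, rfl⟩ := (mem_rootSubgroup_iff g).1 hy
    exact key _ (Or.inr (g.neg_eq _ hsi)) r hr t u

theorem xG_mem_negUnipotent (g : Good D A) {r : ℕ} (hr : D.IsNegRoot r) (t : F) :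
    xG g r t ∈ D.negUnipotent F := by
  rw [negUnipotent_eq g]; exact Subgroup.subset_closure ⟨r, t, hr, rfl⟩

theorem negSimple_isNeg (g : Good D A) {i : ℕ} (hi : i < D.rank) :
    D.IsNegRoot (A.neg (D.simple i)) :=
  isNeg_of_not_pos g (g.neg_lt _ (g.simple_lt i hi)) (not_pos_neg g (simple_pos g hi))

theorem UP_negBut_le (g : Good D A) (i : ℕ) : UP F g (negBut D A i) ≤ D.negUnipotent F :=
  UP_le fun _ t hr => xG_mem_negUnipotent g hr.1 t

/-- `U⁻ = U⁻_i X_{-p}` -/
theorem neg_decomp (h : Std D A) {i : ℕ} (hi : i < D.rank) {u : GL D.Idx F}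
    (hu : u ∈ D.negUnipotent F) :
    ∃ v ∈ UP F h.good (negBut D A i), ∃ a, u = v * xG h.good (A.neg (D.simple i)) a := by
  have g := h.good
  have hnorm : D.rootSubgroup F (D.neg (D.simple i)) ≤
      Subgroup.normalizer (UP F h.good (negBut D A i) : Set (GL D.Idx F)) :=
    le_trans le_sup_right (rankOne_le_normalizer_neg h hi)
  have hle : D.negUnipotent F ≤
      UP F h.good (negBut D A i) ⊔ D.rootSubgroup F (D.neg (D.simple i)) := by
    rw [negUnipotent_eq g]
    refine (Subgroup.closure_le _).2 ?_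
    rintro y ⟨r, t, hr, rfl⟩
    by_cases e : r = A.neg (D.simple i)
    · subst e
      refine (le_sup_right : _ ≤ UP F h.good (negBut D A i) ⊔ _) ?_
      rw [g.neg_eq _ (g.simple_lt i hi)]
      exact xG_mem_rootSubgroup g _ t
    · exact (le_sup_left : _ ≤ UP F h.good (negBut D A i) ⊔ D.rootSubgroup F (D.neg (D.simple i)))
        (xG_mem_UP g ⟨hr, e⟩ t)
  have hu' := hle hu
  rw [← SetLike.mem_coe, Subgroup.coe_mul_of_right_le_normalizer_left _ _ hnorm] at hu'
  obtain ⟨v, hv, x, hx, rfl⟩ := hu'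
  obtain ⟨a, rfl⟩ := (mem_rootSubgroup_iff h.good).1 hx
  exact ⟨v, hv, a, by rw [g.neg_eq _ (g.simple_lt i hi)]⟩

theorem nS_conj_negBut (h : Std D A) {i : ℕ} (hi : i < D.rank) {v : GL D.Idx F}
    (hv : v ∈ UP F h.good (negBut D A i)) :
    nS F h.good i * v * (nS F h.good i)⁻¹ ∈ UP F h.good (negBut D A i) :=
  (Subgroup.mem_normalizer_iff.1 (rankOne_le_normalizer_neg h hi (nS_mem_rankOne h.good i)) v).1 hv

/-- the group is generated by the negative unipotent subgroup and the fundamental monomial elements -/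
theorem group_le_of_gen (g : Good D A) {K : Subgroup (GL D.Idx F)}
    (h1 : D.negUnipotent F ≤ K) (h2 : ∀ i < D.rank, nS F g i ∈ K) : D.group F ≤ K := by
  rw [group_eq g]
  refine (Subgroup.closure_le _).2 ?_
  rintro y ⟨r, t, hr, rfl⟩
  revert t
  revert r
  suffices ∀ r < D.nroots, ∀ t : F, xG g r t ∈ K from fun r hr t => this r hr t
  refine root_induction g (fun j hj _ t => ?_) fun i hi r hr ih t => ?_
  · have hn := negSimple_isNeg (D := D) g hj
    have hη : (A.eta j (A.neg (D.simple j)) : F) ≠ 0 :=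
      eta_ne_zero g hj (g.neg_lt _ (g.simple_lt j hj))
    have e := n_mul_y g hj ((A.eta j (A.neg (D.simple j)) : F)⁻¹ * t)
    rw [mul_inv_cancel_left₀ hη] at e
    rw [← mul_inv_cancel_right (xG g (D.simple j) t) (nS F g j), ← e]
    exact mul_mem (mul_mem (h2 j hj) (h1 (xG_mem_negUnipotent g hn _))) (inv_mem (h2 j hj))
  · have hη : (A.eta i r : F) ≠ 0 := eta_ne_zero g hi hr
    have e := nS_conj_xG g hi hr ((A.eta i r : F)⁻¹ * t)
    rw [mul_inv_cancel_left₀ hη] at e
    rw [← e]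
    exact mul_mem (mul_mem (h2 i hi) (ih _)) (inv_mem (h2 i hi))

end CfsgLib.Chev.Weights
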